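import Cfsg.Agent.Lib.RankThree72.Basic
import Cfsg.Agent.Lib.CentralTwoElements
import Cfsg.Agent.Lib.CITSuzuki.TICase
import Cfsg.Agent.Lib.CITReduce.SuzukiGraph
import Cfsg.Agent.Lib.CNGroup.EvenTI
import Cfsg.Agent.Lib.Subnormality.UniqueMaximal
import Cfsg.Agent.Lib.PrimePowerClass.Radical
import Cfsg.Agent.Lib.PGroups.UniqueInvolution
import Cfsg.Agent.Lib.PGroups.Omega
import Cfsg.Agent.Lib.OddOrder.FeitThompson
import Cfsg.Agent.Lib.Involutions.Basic
import Cfsg.Agent.Lib.SmallGroups.ProjLine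

/-!
# No class size divides another: the nonsolvable groups with trivial centre are `PSL₂(2^n)`
-/

set_option autoImplicit false
set_option linter.style.haveILetI false

namespace Cfsg.Agent.Lib.RankThree72

open Cfsg.Agent.Lib.ClassSizes.Basic Cfsg.Agent.Lib.ClassSizes.CopTools
open Cfsg.Agent.Lib.Involutions.Basic

universe u

variable {G : Type u} [Group G] [Finite G]

/-- No class size of a nontrivial element divides another one. -/
def Antichain (G : Type u) [Group G] : Prop :=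
  ∀ x y : G, x ≠ 1 → y ≠ 1 → idx x ∣ idx y → idx x = idx y

namespace Antichain

theorem cen_eq (h : Antichain G) {x y : G} (hx : x ≠ 1) (hy : y ≠ 1) (hle : cen x ≤ cen y) :
    cen x = cen y :=
  cen_eq_of_idx hle (h y x hy hx (Subgroup.index_dvd_of_le hle)).symm

theorem cen_eq_coprime (h : Antichain G) {x v : G} (hx : x ≠ 1) (hv : v ≠ 1) (hvx : v ∈ cen x)
    (hcop : (orderOf x).Coprime (orderOf v)) : cen x = cen v := by
  have e := cen_mul hvx hcop
  have hne : x * v ≠ 1 := by
    intro hm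
    rw [mul_eq_one_iff_eq_inv] at hm
    rw [hm, orderOf_inv, Nat.coprime_self] at hcop
    exact hv (orderOf_eq_one_iff.1 hcop)
  rw [← h.cen_eq hne hx (e.le.trans inf_le_left), h.cen_eq hne hv (e.le.trans inf_le_right)]

/-- A centraliser of an `s`-element is an `s`-group or abelian. -/
theorem cen_type (h : Antichain G) {s : ℕ} (hs : s.Prime) {x : G} (hx : x ≠ 1) (hxs : IsPEl s x) :
    IsPGroup s (cen x) ∨ ∀ u ∈ cen x, ∀ v ∈ cen x, u * v = v * u := by
  by_cases hp : ∀ (p : ℕ) (v : G), p.Prime → v ∈ cen x → IsPEl p v → v ≠ 1 → p = s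
  · left
    have := Fact.mk hs
    refine IsPGroup.iff_orderOf.2 fun g => ?_
    refine ⟨_, Nat.eq_prime_pow_of_unique_prime_dvd (orderOf_pos g).ne' fun {d} hd hdg => ?_⟩
    have := Fact.mk hd
    obtain ⟨k, hk⟩ := exists_prime_orderOf_dvd_card' (G := cen x) d (hdg.trans (orderOf_dvd_natCard g))
    rw [← Subgroup.orderOf_coe] at hk
    refine hp d k hd k.2 (isPEl_of_orderOf (k := 1) (by rw [hk, pow_one])) fun e => ?_
    rw [e, orderOf_one] at hk
    exact hd.ne_one hk.symm
  · push Not at hp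
    obtain ⟨p, v, hp, hv, hvp, hv1, hne⟩ := hp
    have ev := h.cen_eq_coprime hx hv1 hv (hxs.coprime_orderOf hs hp (Ne.symm hne) hvp)
    right
    refine commutative_of_primary fun q g hq hg hgq hg1 => le_of_eq ?_
    by_cases hqs : q = s
    · have hgv : g ∈ cen v := ev ▸ hg
      rw [ev]
      exact h.cen_eq_coprime hv1 hg1 hgv
        (hvp.coprime_orderOf hp hq (fun e => hne (e.trans hqs)) hgq)
    · exact h.cen_eq_coprime hx hg1 hg (hxs.coprime_orderOf hs hq (Ne.symm hqs) hgq)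

theorem cen_nilpotent (h : Antichain G) {g : G} (hg : g ≠ 1) : Group.IsNilpotent (cen g) := by
  obtain ⟨p, u, hp, hup, hu1, -, hle⟩ := exists_primary hg
  have := Fact.mk hp
  refine CNGroup.Basic.isNilpotent_mono hle ?_
  rcases h.cen_type hp hu1 hup with h1 | h1
  · exact h1.isNilpotent
  · exact isNilpotent_of_primary fun _ _ u v _ _ _ hu hv _ _ => h1 u hu v hv

theorem isCN (h : Antichain G) : Cfsg.IsCNGroup G := fun _ hg => h.cen_nilpotent hg

variable [h2 : Fact (Nat.Prime 2)]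

/-- A Sylow 2-subgroup is abelian and all its involution-like elements share one centraliser. -/
theorem exists_abelian (h : Antichain G) (T : Sylow 2 G) (hd : 2 ∣ Nat.card G) :
    ∃ A : Subgroup G, (T : Subgroup G) ≤ A ∧ (∀ x ∈ A, ∀ y ∈ A, x * y = y * x) ∧
      ∀ a ∈ A, a ≠ 1 → cen a = A := by
  obtain ⟨z, -, hz1, hzp, hTz⟩ := exists_central T hd
  have fin : ∀ A : Subgroup G, A = cen z → (∀ x ∈ A, ∀ y ∈ A, x * y = y * x) →
      ∃ A : Subgroup G, (T : Subgroup G) ≤ A ∧ (∀ x ∈ A, ∀ y ∈ A, x * y = y * x) ∧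
        ∀ a ∈ A, a ≠ 1 → cen a = A := by
    intro A hA hAc
    refine ⟨A, hA ▸ hTz, hAc, fun a ha ha1 => ?_⟩
    have hle : cen z ≤ cen a := fun w hw => mem_cen.2 (hAc a ha w (hA ▸ hw))
    rw [hA, h.cen_eq hz1 ha1 hle]
  rcases h.cen_type h2.out hz1 hzp with hp | hc
  swap
  · exact fin _ rfl hc
  have hzT : cen z = (T : Subgroup G) := T.is_maximal' hp hTz
  -- every `2`-element centralises a Sylow `2`-subgroup
  have key : CentralTwoElements.AllCentral G := by
    rintro x ⟨k, hk⟩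
    rcases eq_or_ne x 1 with rfl | hx1
    · exact ⟨T, fun g _ => mem_cen.2 (by simp)⟩
    have hxz : IsPGroup 2 (Subgroup.zpowers x) := (isPEl_of_orderOf hk).isPGroup h2.out
    obtain ⟨S, hS⟩ := hxz.exists_le_sylow
    obtain ⟨g, hg⟩ := MulAction.exists_smul_eq G T S
    set z' := g * z * g⁻¹ with hz'
    have hz'p : IsPEl 2 z' := (by obtain ⟨k, hk⟩ := hzp; exact ⟨k, by rw [conj_pow, hk, mul_one, mul_inv_cancel]⟩)
    have hz'1 : z' ≠ 1 := fun e => hz1 (conj_eq_one_iff.1 e)
    have hcz' : cen z' = (S : Subgroup G) := by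
      ext y
      rw [mem_cen_conj]
      show g⁻¹ * y * g ∈ cen z ↔ _
      rw [hzT, ← hg, Sylow.coe_subgroup_smul,
        Subgroup.mem_pointwise_smul_iff_inv_smul_mem]
      simp [MulAut.smul_def, MulAut.inv_def, mul_assoc]
    have hzx : z' ∈ cen x := mem_cen_comm.1 (hcz'.ge (hS (Subgroup.mem_zpowers x)))
    rcases h.cen_type h2.out hx1 (isPEl_of_orderOf hk) with hxp | hxc
    · obtain ⟨S', hS'⟩ := hxp.exists_le_sylow
      refine ⟨S', le_of_eq (Subgroup.eq_of_le_of_card_ge hS' (le_of_eq ?_)).symm⟩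
      have hd : idx z ∣ idx x := by
        rw [show idx z = (S' : Subgroup G).index by
          rw [idx, hzT]
          exact Nat.eq_of_mul_eq_mul_left Nat.card_pos
            ((T : Subgroup G).card_mul_index.trans ((T.card_eq_multiplicity.trans S'.card_eq_multiplicity.symm) ▸ (S' : Subgroup G).card_mul_index).symm)]
        exact Subgroup.index_dvd_of_le hS'
      have e := h z x hz1 hx1 hd
      have h1 := card_cen_mul_idx z
      rw [e, hzT, T.card_eq_multiplicity, ← S'.card_eq_multiplicity, ← card_cen_mul_idx x] at h1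
      exact Nat.eq_of_mul_eq_mul_right (Nat.pos_of_ne_zero Subgroup.index_ne_zero_of_finite) h1
    · refine ⟨S, ?_⟩
      rw [← hcz']
      exact (h.cen_eq hx1 hz'1 fun w hw => mem_cen.2 (hxc z' hzx w hw)).ge
  haveI := CentralTwoElements.isMulCommutative key T
  exact fin _ hzT.symm fun x hx y hy => setLike_mul_comm hx hy

omit [Finite G] h2 in
theorem exists_fixed_four {E : Subgroup G} [E.Normal] (hne : E ≠ ⊥) {u v : G} (hu : orderOf u = 2)
    (hv : orderOf v = 2) (hE : ∀ x ∈ E, ∀ y ∈ E, x * y = y * x) :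
    ∃ w ∈ ({u, v, u * v} : Set G), ∃ e ∈ E, e ≠ 1 ∧ Commute w e := by
  obtain ⟨e, he, he1⟩ := E.ne_bot_iff_exists_ne_one.1 hne |> fun ⟨e, he⟩ => (⟨e, e.2,
    fun h => he (Subtype.ext h)⟩ : ∃ e, e ∈ E ∧ e ≠ (1 : G))
  have hn : E.Normal := inferInstance
  have key : ∀ {w : G}, orderOf w = 2 → w * e * w⁻¹ = e⁻¹ ∨ ∃ f ∈ E, f ≠ 1 ∧ Commute w f := by
    intro w hw
    by_cases h1 : e * (w * e * w⁻¹) = 1
    · exact Or.inl (eq_inv_of_mul_eq_one_right h1)
    refine Or.inr ⟨_, E.mul_mem he (hn.conj_mem e he w), h1, ?_⟩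
    rw [commute_iff_eq, ← mul_inv_eq_iff_eq_mul]
    calc w * (e * (w * e * w⁻¹)) * w⁻¹ = (w * e * w⁻¹) * (w * w * e * (w * w)⁻¹) := by group
      _ = (w * e * w⁻¹) * e := by rw [invol_mul_self hw]; group
      _ = e * (w * e * w⁻¹) := hE _ (hn.conj_mem e he w) _ he
  rcases key hu with h1 | ⟨f, hf, hf1, hc⟩
  swap; · exact ⟨u, by simp, f, hf, hf1, hc⟩
  rcases key hv with h2 | ⟨f, hf, hf1, hc⟩
  swap; · exact ⟨v, by simp, f, hf, hf1, hc⟩
  refine ⟨u * v, by simp, e, he, he1, ?_⟩
  rw [commute_iff_eq, ← mul_inv_eq_iff_eq_mul]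
  calc u * v * e * (u * v)⁻¹ = u * (v * e * v⁻¹) * u⁻¹ := by group
    _ = (u * e * u⁻¹)⁻¹ := by rw [h2]; group
    _ = e := by rw [h1, inv_inv]

/-- A Sylow `2`-subgroup with a unique involution which is abelian makes the group solvable. -/
theorem exists_two_invol (T : Sylow 2 G) (hc : IsMulCommutative (T : Subgroup G))
    (hns : ¬ Group.IsSolvable G) :
    ∃ u ∈ (T : Subgroup G), ∃ v ∈ (T : Subgroup G), orderOf u = 2 ∧ orderOf v = 2 ∧ u ≠ v := by
  by_contra hcon
  push Not at hcon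
  have hd : 2 ∣ Nat.card G := by
    by_contra hd
    exact hns (OddOrder.FeitThompson.isSolvable_of_odd_card (Nat.not_even_iff_odd.1
      fun he => hd (even_iff_two_dvd.1 he)))
  have hcyc : IsCyclic (T : Subgroup G) := by
    refine PGroups.isCyclic_of_comm_omega hc T.2 ?_
    obtain ⟨z, hz, hz1, -, hzo⟩ := exists_pel_of_dvd Nat.prime_two (T.dvd_card_of_dvd_card hd)
    have hle : Cfsg.omegaOne 2 (T : Subgroup G) ≤ Subgroup.zpowers z := by
      refine (Subgroup.closure_le _).2 fun x hx => ?_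
      rcases eq_or_ne x 1 with rfl | hx1
      · exact one_mem _
      have : orderOf x = 2 := orderOf_eq_prime hx.2 hx1
      rw [hcon x hx.1 z hz this hzo]
      exact Subgroup.mem_zpowers z
    calc Nat.card (Cfsg.omegaOne 2 (T : Subgroup G)) ≤ Nat.card (Subgroup.zpowers z) :=
          Subgroup.card_le_of_le hle
      _ = 2 := by rw [Nat.card_zpowers, hzo]
  have hmin : (Nat.card G).minFac = 2 := (Nat.minFac_eq_two_iff _).2 hd
  have hN := IsCyclic.normalizer_le_centralizer (P := T) hmin hcyc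
  set K := (MonoidHom.transferSylow T hN).ker with hK
  have hcompl := MonoidHom.ker_transferSylow_isComplement' T hN
  haveI : Group.IsSolvable K := OddOrder.FeitThompson.isSolvable_of_odd_card (by
    rw [Nat.odd_iff, ← Nat.two_dvd_ne_zero]
    have := MonoidHom.not_dvd_card_ker_transferSylow T hN
    exact this)
  haveI : Group.IsSolvable (T : Subgroup G) := inferInstance
  refine hns (Group.isSolvable_of_ker_le_range K.subtype (MonoidHom.transferSylow T hN) ?_)
  rw [K.range_subtype]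

theorem no_abelian_normal (h : Antichain G) (hns : ¬ Group.IsSolvable G) {E : Subgroup G}
    [hEn : E.Normal] (hEc : ∀ x ∈ E, ∀ y ∈ E, x * y = y * x) : E = ⊥ := by
  by_contra hne
  obtain ⟨T⟩ := (inferInstance : Nonempty (Sylow 2 G))
  have hd : 2 ∣ Nat.card G := by
    by_contra hd
    exact hns (OddOrder.FeitThompson.isSolvable_of_odd_card (Nat.not_even_iff_odd.1
      fun he => hd (even_iff_two_dvd.1 he)))
  obtain ⟨A, hTA, hAc, hA⟩ := h.exists_abelian T hd
  obtain ⟨u, hu, v, hv, hu2, hv2, huv⟩ :=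
    exists_two_invol T ⟨⟨fun x y => Subtype.ext (hAc x (hTA x.2) y (hTA y.2))⟩⟩ hns
  obtain ⟨w, hw, e, he, he1, hc⟩ := exists_fixed_four hne hu2 hv2 hEc
  have hwA : w ∈ A ∧ w ≠ 1 := by
    rcases hw with rfl | rfl | rfl
    · exact ⟨hTA hu, invol_ne_one hu2⟩
    · exact ⟨hTA hv, invol_ne_one hv2⟩
    · exact ⟨A.mul_mem (hTA hu) (hTA hv), fun e => huv (by
        rw [mul_eq_one_iff_eq_inv, invol_inv hv2] at e; exact e)⟩
  have heA : e ∈ A := hA w hwA.1 hwA.2 ▸ mem_cen.2 hc.eq
  have hcE : Subgroup.centralizer (E : Set G) = A := by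
    refine le_antisymm ?_ fun a ha => Subgroup.mem_centralizer_iff.2 fun f hf => hAc f ?_ a ha
    · rw [← hA e heA he1]
      exact Subgroup.centralizer_le (Set.singleton_subset_iff.2 he)
    · rw [← hA e heA he1]
      exact mem_cen.2 (hEc e he f hf)
  have : A.Normal := hcE ▸ inferInstance
  apply hns
  haveI : Group.IsSolvable A := Group.isSolvable_of_comm fun x y => Subtype.ext (hAc x x.2 y y.2)
  haveI : Group.IsSolvable (G ⧸ A) := OddOrder.FeitThompson.isSolvable_of_odd_card (by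
    rw [← Subgroup.index_eq_card, Nat.odd_iff, ← Nat.two_dvd_ne_zero]
    exact fun hd' => T.not_dvd_index (hd'.trans (Subgroup.index_dvd_of_le hTA)))
  exact Group.isSolvable_of_ker_le_range A.subtype (QuotientGroup.mk' A)
    (by rw [QuotientGroup.ker_mk', A.range_subtype])

theorem radical_trivial (h : Antichain G) (hns : ¬ Group.IsSolvable G) {S : Subgroup G} [S.Normal]
    (hS : Group.IsSolvable S) : S = ⊥ := by
  by_contra hne
  obtain ⟨E, hEn, hE, -, hEc⟩ := exists_abelian_normal_le hS hne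
  exact hE (h.no_abelian_normal hns hEc)

omit h2 in
/-- A non-abelian root group. -/
theorem exists_noncomm {F : Type*} [Field F] [Fintype F] {m : ℕ}
    (hF : LieTwisted.Suzuki.IsSzField F m) (hm : 1 ≤ m) :
    ∃ u v : Cfsg.Sz F m, u ∈ LieTwisted.Suzuki.unip hF ∧ v ∈ LieTwisted.Suzuki.unip hF ∧
      u * v ≠ v * u := by
  obtain ⟨x, hx⟩ : ∃ x : F, LieTwisted.Suzuki.sg m x ≠ x := by
    by_contra hall
    push Not at hall
    have hsq : ∀ x : F, x = 0 ∨ x = 1 := fun x => by
      have := hF.sg_sg x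
      rw [hall, hall] at this
      rcases eq_or_ne x 0 with h0 | h0
      · exact Or.inl h0
      · right
        have h1 : x * x = x * 1 := by rw [mul_one, ← pow_two]; exact this.symm
        exact mul_left_cancel₀ h0 h1
    have hle : Fintype.card F ≤ Fintype.card Bool := by
      classical
      refine Fintype.card_le_of_injective (fun x : F => decide (x = 0)) fun a b hab => ?_
      simp only [decide_eq_decide] at hab
      rcases hsq a with rfl | rfl <;> rcases hsq b with rfl | rfl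
      · rfl
      · exact absurd (hab.1 rfl) one_ne_zero
      · exact absurd (hab.2 rfl) one_ne_zero
      · rfl
    have := hF.two_lt_card hm
    simp only [Fintype.card_bool] at hle
    omega
  refine ⟨LieTwisted.Suzuki.uS hF 1 0, LieTwisted.Suzuki.uS hF x 0, hF.uS_mem _ _, hF.uS_mem _ _,
    fun e => hx ?_⟩
  rw [hF.uS_mul, hF.uS_mul] at e
  have h2 := (hF.uS_coords_inj e).2
  rw [LieTwisted.Suzuki.sg_one] at h2
  simpa using h2.symm

variable {N : Subgroup G}

omit h2 in
/-- The Sylow `2`-subgroups of a nonabelian simple normal subgroup. -/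
theorem sylow_data (h : Antichain G) [hsim : IsSimpleGroup N] (hna : ∃ a b : N, a * b ≠ b * a)
    (T1 : Sylow 2 N) :
    ∃ A : Subgroup G, (∀ x ∈ A, ∀ y ∈ A, x * y = y * x) ∧ (∀ a ∈ A, a ≠ 1 → cen a = A) ∧
      A.subgroupOf N = (T1 : Subgroup N) ∧ (T1 : Subgroup N) ≠ ⊥ := by
  haveI : Fact (Nat.Prime 2) := ⟨Nat.prime_two⟩
  have hd : 2 ∣ Nat.card N := by
    by_contra hd
    haveI := OddOrder.FeitThompson.isSolvable_of_odd_card (G := N) (Nat.not_even_iff_odd.1
      fun he => hd (even_iff_two_dvd.1 he))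
    obtain ⟨a, b, hab⟩ := hna
    exact hab (IsSimpleGroup.comm_iff_isSolvable.mpr inferInstance a b)
  have hne : (T1 : Subgroup N) ≠ ⊥ := T1.ne_bot_of_dvd_card hd
  obtain ⟨S, hS⟩ := (T1.2.map N.subtype).exists_le_sylow
  obtain ⟨A, hSA, hAc, hA⟩ := h.exists_abelian S (hd.trans (Subgroup.card_subgroup_dvd_card N))
  refine ⟨A, hAc, hA, ?_, hne⟩
  have hle : (T1 : Subgroup N) ≤ A.subgroupOf N := fun x hx =>
    hSA (hS (Subgroup.mem_map_of_mem _ hx))
  obtain ⟨y, hy, hy1, -, hyo⟩ := exists_pel_of_dvd Nat.prime_two (T1.dvd_card_of_dvd_card hd)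
  have hp := CNGroup.EvenTI.isPGroup_centralizer_of_isCNGroup hna
    (CNGroup.Basic.isCNGroup_subgroup h.isCN N) hyo
  have hle2 : A.subgroupOf N ≤ Subgroup.centralizer ({y} : Set N) := fun x hx =>
    Subgroup.mem_centralizer_singleton_iff.2 (Subtype.ext (hAc x hx y (hle hy)))
  exact T1.is_maximal' (hp.to_le hle2) hle

theorem main (h : Antichain G) (hns : ¬ Group.IsSolvable G) :
    ∃ a : ℕ, 0 < a ∧
      Nonempty (G ≃* Matrix.ProjectiveSpecialLinearGroup (Fin 2) (GaloisField 2 a)) := by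
  classical
  haveI : Nontrivial G := by
    rcases subsingleton_or_nontrivial G with hs | hs
    · exact absurd (Group.isSolvable_of_comm fun a b : G => Subsingleton.elim _ _) hns
    · exact hs
  obtain ⟨N, hN, hN1, hNmin⟩ := Subnormality.UniqueMaximal.exists_minimal_normal (G := G)
  haveI := hN
  have hNns : ¬ Group.IsSolvable N := fun hs => hN1 (h.radical_trivial hns hs)
  have hNsim : ∀ W : Subgroup N, W.Normal → W = ⊥ ∨ W = ⊤ := by
    intro W hW
    by_contra hcon
    push Not at hcon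
    obtain ⟨V, hV⟩ := (Set.toFinite {V : Subgroup N | V.Normal ∧ V ≤ W ∧ V ≠ ⊥}).exists_minimal
      ⟨W, hW, le_rfl, hcon.1⟩
    obtain ⟨⟨hVn, hVW, hV1⟩, hVmin⟩ := hV
    haveI := hVn
    by_cases hall : ∀ (g : G), ∀ x ∈ V, MulAut.conjNormal g x ∈ V
    · have hMn : (V.map N.subtype).Normal := ⟨by
        rintro _ ⟨x, hx, rfl⟩ g
        exact ⟨_, hall g x hx, MulAut.conjNormal_apply g x⟩⟩
      have := hNmin _ hMn (Subgroup.map_subtype_le V) (by
        rwa [Ne, Subgroup.map_eq_bot_iff_of_injective _ N.subtype_injective])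
      refine hcon.2 (eq_top_iff.2 fun x _ => hVW ?_)
      obtain ⟨x', hx', e⟩ := this.ge x.2
      rwa [Subtype.ext (show (x' : G) = x from e)] at hx'
    · push Not at hall
      obtain ⟨g, x, hx, hgx⟩ := hall
      set f : N ≃* N := MulAut.conjNormal g with hf
      set W' : Subgroup N := V.map f.toMonoidHom with hW'
      haveI : W'.Normal := hVn.map f.toMonoidHom f.surjective
      have hgx' : f x ∈ W' := ⟨x, hx, rfl⟩
      have hinf : V ⊓ W' = ⊥ := by
        by_contra hne
        have hle : V ≤ V ⊓ W' := hVmin ⟨inferInstance, inf_le_left.trans hVW, hne⟩ inf_le_left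
        have heq : V = W' := Subgroup.eq_of_le_of_card_ge (hle.trans inf_le_right)
          (le_of_eq (Subgroup.card_map_of_injective f.injective))
        exact hgx (heq.symm ▸ hgx')
      obtain ⟨w, hw, hw1⟩ : ∃ w ∈ W', w ≠ 1 := by
        refine ⟨_, hgx', fun e => hgx ?_⟩
        rw [e]
        exact one_mem _
      have hle : V.map N.subtype ≤ cen (w : G) := by
        rintro _ ⟨v, hv, rfl⟩
        exact mem_cen.2 (congrArg Subtype.val (Subgroup.commute_of_normal_of_disjoint V W' hVn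
          inferInstance (disjoint_iff.2 hinf) v w hv hw).eq).symm
      haveI := CNGroup.Basic.isNilpotent_mono hle
        (h.cen_nilpotent fun e => hw1 (Subtype.ext e))
      have hVs : Group.IsSolvable V :=
        Group.isSolvable_of_isSolvable_injective
          (f := (V.equivMapOfInjective N.subtype N.subtype_injective).toMonoidHom)
          (V.equivMapOfInjective N.subtype N.subtype_injective).injective
      haveI := PrimePowerClass.Radical.solRad_isSolvable (G := N)
      haveI := PrimePowerClass.Radical.solRad_characteristic (G := N)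
      have hR := h.radical_trivial hns (S := (PrimePowerClass.Radical.solRad N).map N.subtype)
        (Group.isSolvable_of_isSolvable_injective
            (f := ((PrimePowerClass.Radical.solRad N).equivMapOfInjective N.subtype
              N.subtype_injective).symm.toMonoidHom)
            (Subgroup.equivMapOfInjective (PrimePowerClass.Radical.solRad N) N.subtype
              N.subtype_injective).symm.injective)
      rw [Subgroup.map_eq_bot_iff_of_injective _ N.subtype_injective] at hR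
      exact hV1 (eq_bot_iff.2 ((PrimePowerClass.Radical.le_solRad hVs).trans hR.le))
  haveI : Nontrivial N := (Subgroup.nontrivial_iff_ne_bot N).2 hN1
  haveI : IsSimpleGroup N := ⟨hNsim⟩
  have hna : ∃ a b : N, a * b ≠ b * a := by
    by_contra hc
    push Not at hc
    exact hNns (Group.isSolvable_of_comm hc)
  have hcl := CITSuzuki.ti_case hna (fun t ht => CNGroup.EvenTI.isPGroup_centralizer_of_isCNGroup
    hna (CNGroup.Basic.isCNGroup_subgroup h.isCN N) ht) (by
      intro T1 g hg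
      by_contra hne
      obtain ⟨A, hAc, hA, hAN, -⟩ := h.sylow_data hna T1
      obtain ⟨A', hAc', hA', hAN', -⟩ := h.sylow_data hna (g • T1)
      obtain ⟨⟨x, hx⟩, hx1⟩ := (Subgroup.ne_bot_iff_exists_ne_one).1 hne
      have hx1' : (x : G) ≠ 1 := fun e => hx1 (Subtype.ext (Subtype.ext e))
      have hxA : (x : G) ∈ A := hAN.ge hx.1
      have hxA' : (x : G) ∈ A' := hAN'.ge hx.2
      have he : A = A' := (hA _ hxA hx1').symm.trans (hA' _ hxA' hx1')
      apply hg
      have heq : g • T1 = T1 := Sylow.ext (hAN'.symm.trans (he ▸ hAN))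
      rwa [Sylow.smul_eq_iff_mem_normalizer] at heq)
  rcases hcl with ⟨F, fF, ffF, ⟨n, hn⟩, ⟨e⟩⟩ | ⟨F, fF, ffF, m, hm, hF, ⟨e⟩⟩
  swap
  · exfalso
    have hk : LieTwisted.Suzuki.IsSzField F m := ⟨hF⟩
    obtain ⟨u, v, hu, hv, huv⟩ := exists_noncomm hk hm
    obtain ⟨S, hS⟩ := hk.exists_sylow hm
    set e' := (e.trans (LieTwisted.Suzuki.szEquiv hk hm).symm).symm with he'
    obtain ⟨T1, hT1⟩ := ((hS ▸ S.2 : IsPGroup 2 (LieTwisted.Suzuki.unip hk)).map
      e'.toMonoidHom).exists_le_sylow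
    obtain ⟨A, hAc, -, hAN, -⟩ := h.sylow_data hna T1
    refine huv (e'.injective ?_)
    rw [map_mul, map_mul]
    exact Subtype.ext (hAc _ (hAN.ge (hT1 ⟨u, hu, rfl⟩)) _ (hAN.ge (hT1 ⟨v, hv, rfl⟩)))
  have hn0 : 0 < n := by
    rcases Nat.eq_zero_or_pos n with rfl | h0
    · have := Fintype.one_lt_card (α := F)
      rw [hn, pow_zero] at this
      omega
    · exact h0
  refine ⟨n, hn0, ?_⟩
  haveI : Fintype (GaloisField 2 n) := Fintype.ofFinite _
  obtain ⟨c⟩ := SmallGroups.ProjLine.psl_congr_card (F := F) (F' := GaloisField 2 n)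
    (by rw [hn, ← Nat.card_eq_fintype_card, GaloisField.card 2 n hn0.ne'])
  refine ⟨MulEquiv.trans ?_ (e.trans c)⟩
  -- `G = N`
  refine (Subgroup.topEquiv.symm.trans (MulEquiv.subgroupCongr ?_))
  obtain ⟨T1⟩ := (inferInstance : Nonempty (Sylow 2 N))
  obtain ⟨A, hAc, hA, hAN, hT1⟩ := h.sylow_data hna T1
  have hmemT1 : ∀ {x : G} (hxN : x ∈ N), x ∈ A → (⟨x, hxN⟩ : N) ∈ (T1 : Subgroup N) :=
    fun hxN hxA => hAN.le hxA
  -- an element moving `T1`
  obtain ⟨k, hk, hkT⟩ : ∃ k ∈ Subgroup.normalizer ((T1 : Subgroup N) : Set N), k ∉ (T1 : Subgroup N) := by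
    by_contra hcon
    push Not at hcon
    have hN' : Subgroup.normalizer ((T1 : Subgroup N) : Set N) ≤
        Subgroup.centralizer ((T1 : Subgroup N) : Set N) := fun x hx =>
      Subgroup.mem_centralizer_iff.2 fun y hy =>
        Subtype.ext (hAc y (hAN.ge hy) x (hAN.ge (hcon x hx)))
    have hcompl := MonoidHom.ker_transferSylow_isComplement' T1 hN'
    rcases hNsim _ (MonoidHom.normal_ker (MonoidHom.transferSylow T1 hN')) with hK | hK <;>
      rw [hK] at hcompl
    · have ht := Subgroup.isComplement'_bot_left.1 hcompl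
      have : Group.IsNilpotent N := by
        have h1 : IsPGroup 2 N := by
          intro x
          obtain ⟨j, hj⟩ := T1.2 ⟨x, ht.ge (Subgroup.mem_top x)⟩
          exact ⟨j, congrArg Subtype.val hj⟩
        exact h1.isNilpotent
      exact hNns inferInstance
    · exact hT1 (Subgroup.isComplement'_top_left.1 hcompl)
  obtain ⟨⟨z0, hz0⟩, hz01⟩ := Subgroup.ne_bot_iff_exists_ne_one.1 hT1
  have hz0' : (z0 : G) ≠ 1 := fun e => hz01 (Subtype.ext (Subtype.ext e))
  have hkA : ∀ a ∈ A, (k : G) * a * (k : G)⁻¹ ∈ A := by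
    intro a ha
    have hm := ((Subgroup.mem_normalizer_iff.1 hk) z0).1 hz0
    have e1 := hA _ (hAN.ge hm) (fun e => hz0' (conj_eq_one_iff.1 e))
    rw [← e1]
    refine mem_cen_conj.2 ?_
    show (k : G)⁻¹ * ((k : G) * a * (k : G)⁻¹) * k ∈ cen (z0 : G)
    rw [hA (z0 : G) (hAN.ge hz0) hz0']
    simpa [mul_assoc] using ha
  have hkfix : ∀ a ∈ A, a ≠ 1 → Commute (k : G) a → False := fun a ha ha1 hc =>
    hkT (hmemT1 k.2 (hA a ha ha1 ▸ mem_cen.2 hc.symm.eq))
  -- `A` is a `2`-group
  have hA2 : IsPGroup 2 A := by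
    rw [IsPGroup.iff_orderOf]
    intro g
    refine ⟨_, Nat.eq_prime_pow_of_unique_prime_dvd (orderOf_pos g).ne' fun {r} hr hrg => ?_⟩
    by_contra hr2
    obtain ⟨o, ho, ho1, -, hor⟩ := exists_pel_of_dvd hr (hrg.trans (orderOf_dvd_natCard g))
    obtain ⟨t, ht⟩ : ∃ t, t = (k : G) * o * (k : G)⁻¹ * o⁻¹ := ⟨_, rfl⟩
    have htA : t ∈ A := ht ▸ A.mul_mem (hkA o ho) (A.inv_mem ho)
    have htN : t ∈ N := by
      rw [ht, mul_assoc, mul_assoc, ← mul_assoc o]
      exact N.mul_mem k.2 (hN.conj_mem _ (N.inv_mem k.2) o)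
    obtain ⟨j, hj⟩ := (IsPGroup.iff_orderOf.1 T1.2) ⟨⟨t, htN⟩, hmemT1 htN htA⟩
    rw [Subgroup.orderOf_mk, Subgroup.orderOf_mk] at hj
    have hto : (k : G) * o * (k : G)⁻¹ = t * o := by rw [ht, inv_mul_cancel_right]
    have htr : t ^ r = 1 := by
      have h1 := congrArg (· ^ r) hto
      simp only [conj_pow] at h1
      rw [Commute.mul_pow (hAc t htA o ho), ← hor, pow_orderOf_eq_one, mul_one, mul_one,
        mul_inv_cancel] at h1
      rw [← hor]
      exact h1.symm
    have ht1 : t = 1 := by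
      have h1 : orderOf t ∣ Nat.gcd (2 ^ j) r :=
        Nat.dvd_gcd (dvd_of_eq hj) (orderOf_dvd_of_pow_eq_one htr)
      rw [(Nat.Coprime.pow_left j ((Nat.coprime_primes Nat.prime_two hr).2 (Ne.symm hr2))).gcd_eq_one] at h1
      exact orderOf_eq_one_iff.1 (Nat.dvd_one.1 h1)
    rw [ht1, one_mul, mul_inv_eq_iff_eq_mul] at hto
    exact hkfix o ho ho1 hto
  -- `A` lies in `N`
  have hAle : A ≤ N := by
    let φ : A → (A ⊓ N : Subgroup G) := fun a => ⟨(k : G) * a * (k : G)⁻¹ * (a : G)⁻¹,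
      A.mul_mem (hkA _ a.2) (A.inv_mem a.2), by
        rw [mul_assoc, mul_assoc, ← mul_assoc (a : G)]
        exact N.mul_mem k.2 (hN.conj_mem _ (N.inv_mem k.2) (a : G))⟩
    have hinj : Function.Injective φ := by
      intro a b hab
      have h1 : (k : G) * a * (k : G)⁻¹ * (a : G)⁻¹ = (k : G) * b * (k : G)⁻¹ * (b : G)⁻¹ :=
        congrArg Subtype.val hab
      by_contra hne
      refine hkfix ((b : G)⁻¹ * a) (A.mul_mem (A.inv_mem b.2) a.2) ?_ ?_
      · exact fun e => hne (Subtype.ext (inv_mul_eq_one.1 e).symm)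
      · rw [commute_iff_eq, ← mul_inv_eq_iff_eq_mul]
        have h2 : (k : G) * a * (k : G)⁻¹ = (k : G) * b * (k : G)⁻¹ * (b : G)⁻¹ * a :=
          mul_inv_eq_iff_eq_mul.1 h1
        calc (k : G) * ((b : G)⁻¹ * a) * (k : G)⁻¹
            = ((k : G) * b * (k : G)⁻¹)⁻¹ * ((k : G) * a * (k : G)⁻¹) := by group
          _ = (b : G)⁻¹ * a := by rw [h2]; group
    have hc : Nat.card A ≤ Nat.card (A ⊓ N : Subgroup G) := Nat.card_le_card_of_injective φ hinj
    exact inf_eq_left.1 (Subgroup.eq_of_le_of_card_ge inf_le_left hc)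
  -- the centraliser of an involution of `N`
  have inv_sylow : ∀ v : G, v ∈ N → orderOf v = 2 → ∃ T' : Sylow 2 N,
      (∀ x ∈ cen v, ∀ y ∈ cen v, x * y = y * x) ∧ (∀ a ∈ cen v, a ≠ 1 → cen a = cen v) ∧
        (cen v).subgroupOf N = (T' : Subgroup N) := by
    intro v hv hvo
    obtain ⟨T', hT'⟩ := (IsPGroup.of_card (p := 2) (n := 1) (G := Subgroup.zpowers (⟨v, hv⟩ : N))
      (by rw [Nat.card_zpowers, Subgroup.orderOf_mk, hvo, pow_one])).exists_le_sylow
    obtain ⟨A', hAc', hA', hAN', -⟩ := h.sylow_data hna T'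
    have hvA : v ∈ A' := hAN'.ge (hT' (Subgroup.mem_zpowers _))
    rw [hA' v hvA (invol_ne_one hvo)]
    exact ⟨T', hAc', hA', hAN'⟩
  obtain ⟨z, hz, -, -, hzo⟩ := exists_pel_of_dvd Nat.prime_two
    (show 2 ∣ Nat.card (T1 : Subgroup N) from by
      obtain ⟨j, hj⟩ := T1.2.exists_card_eq
      rcases j with _ | j
      · exact absurd (Subgroup.card_eq_one.1 (hj.trans (pow_zero 2))) hT1
      · exact hj ▸ dvd_pow_self 2 j.succ_ne_zero)
  have hzo' : orderOf (z : G) = 2 := by rw [Subgroup.orderOf_coe]; exact hzo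
  have hzA : cen (z : G) = A := hA _ (hAN.ge hz) (invol_ne_one hzo')
  -- one class of involutions in `N`
  have hcls : ∀ v : N, orderOf v = 2 → IsConj z v := by
    intro v hv
    have pair : ∀ a b : N, orderOf a = 2 → orderOf b = 2 → ¬ IsConj a b →
        cen (a : G) = cen (b : G) := by
      intro a b ha hb hab
      obtain ⟨hw, hca, hcb⟩ := central_invol ha hb (even_of_not_isConj ha hb hab)
      obtain ⟨w, hwdef⟩ : ∃ w, w = (a * b) ^ (orderOf (a * b) / 2) := ⟨_, rfl⟩
      rw [← hwdef] at hw hca hcb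
      obtain ⟨-, -, hcw, -⟩ := inv_sylow w w.2 (by rw [Subgroup.orderOf_coe]; exact hw)
      have ha' : (a : G) ∈ cen (w : G) := mem_cen.2 (congrArg Subtype.val hca.eq)
      have hb' : (b : G) ∈ cen (w : G) := mem_cen.2 (congrArg Subtype.val hcb.eq)
      rw [hcw _ ha' (fun e => invol_ne_one ha (Subtype.ext e)),
        hcw _ hb' (fun e => invol_ne_one hb (Subtype.ext e))]
    by_contra hcon
    have hall : ∀ u : N, orderOf u = 2 → cen (u : G) = A := by
      intro u hu
      by_cases hzu : IsConj z u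
      · rw [pair u v hu hv fun e => hcon (hzu.trans e), ← pair z v hzo hv hcon, hzA]
      · rw [← pair z u hzo hu hzu, hzA]
    have hnorm : A.Normal := ⟨fun a ha g => by
      have h1 := hall ⟨g * z * g⁻¹, hN.conj_mem _ z.2 g⟩
        (by rw [← Subgroup.orderOf_coe, orderOf_conj_eq, hzo'])
      simp only [] at h1
      rw [← h1]
      refine mem_cen_conj.2 ?_
      show g⁻¹ * (g * a * g⁻¹) * g ∈ cen (z : G)
      rw [hzA]
      simpa [mul_assoc] using ha⟩
    have hbot := h.no_abelian_normal hns (E := A) hAc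
    have : (z : G) ∈ A := hAN.ge hz
    rw [hbot, Subgroup.mem_bot] at this
    exact invol_ne_one hzo' this
  refine (eq_top_iff.2 fun g _ => ?_).symm
  obtain ⟨n', hn'⟩ := isConj_iff.1 (hcls ⟨g * z * g⁻¹, hN.conj_mem _ z.2 g⟩
    (by rw [← Subgroup.orderOf_coe, orderOf_conj_eq, hzo']))
  have h1 : (n' : G) * z * (n' : G)⁻¹ = g * z * g⁻¹ := congrArg Subtype.val hn'
  have h2 : (n' : G)⁻¹ * g ∈ cen (z : G) := mem_cen.2 (by
    calc (z : G) * ((n' : G)⁻¹ * g) = (n' : G)⁻¹ * ((n' : G) * z * (n' : G)⁻¹) * g := by group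
      _ = (n' : G)⁻¹ * g * z := by rw [h1]; group)
  rw [hzA] at h2
  simpa using N.mul_mem n'.2 (hAle h2)

end Antichain

end Cfsg.Agent.Lib.RankThree72
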