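import Mathlib
import Cfsg.Agent.Lib.ClassSizes.CopTools
import Cfsg.Agent.Lib.CNGroup.Basic

/-!
# Few class sizes, trivial centre: general tools
-/

set_option autoImplicit false

namespace Cfsg.Agent.Lib.RankThree72

open Cfsg.Agent.Lib.ClassSizes.Basic Cfsg.Agent.Lib.ClassSizes.CopTools

variable {G : Type*} [Group G] [Finite G]

theorem card_cen_mul_idx (x : G) : Nat.card (cen x) * idx x = Nat.card G :=
  (cen x).card_mul_index

theorem cen_eq_of_idx {x y : G} (hle : cen x ≤ cen y) (h : idx x = idx y) : cen x = cen y := by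
  refine Subgroup.eq_of_le_of_card_ge hle (le_of_eq ?_)
  have h1 := card_cen_mul_idx x
  rw [h, ← card_cen_mul_idx y] at h1
  exact (Nat.eq_of_mul_eq_mul_right (Nat.pos_of_ne_zero Subgroup.index_ne_zero_of_finite) h1).symm

theorem idx_lt_card {x : G} (hx : x ≠ 1) : idx x < Nat.card G := by
  have h1 := card_cen_mul_idx x
  have h2 : 1 < Nat.card (cen x) :=
    (Subgroup.one_lt_card_iff_ne_bot _).2 fun e => hx ((Subgroup.eq_bot_iff_forall _).1 e x (self_mem_cen x))
  calc idx x = 1 * idx x := (one_mul _).symm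
    _ < Nat.card (cen x) * idx x :=
      Nat.mul_lt_mul_of_pos_right h2 (Nat.pos_of_ne_zero Subgroup.index_ne_zero_of_finite)
    _ = Nat.card G := h1

theorem isPEl_of_orderOf {p k : ℕ} {x : G} (h : orderOf x = p ^ k) : IsPEl p x :=
  ⟨k, h ▸ pow_orderOf_eq_one x⟩

theorem pel_orderOf {p : ℕ} (hp : p.Prime) {x : G} (h : IsPEl p x) : ∃ k, orderOf x = p ^ k := by
  obtain ⟨k, hk⟩ := h
  exact Elem70.orderOf_eq_pow_of_pow_eq_one hp hk

theorem prime_dvd_orderOf {p : ℕ} (hp : p.Prime) {x : G} (h : IsPEl p x) (hx : x ≠ 1) :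
    p ∣ orderOf x := by
  obtain ⟨k, hk⟩ := pel_orderOf hp h
  rcases k with _ | k
  · exact absurd (orderOf_eq_one_iff.1 (hk.trans (pow_zero p))) hx
  · exact hk ▸ dvd_pow_self p k.succ_ne_zero

theorem pel_prime_unique {p q : ℕ} (hp : p.Prime) (hq : q.Prime) {x : G} (h : IsPEl p x)
    (h' : IsPEl q x) (hx : x ≠ 1) : p = q := by
  obtain ⟨k, hk⟩ := pel_orderOf hq h'
  exact (Nat.prime_dvd_prime_iff_eq hp hq).1
    (hp.dvd_of_dvd_pow (hk ▸ prime_dvd_orderOf hp h hx))

/-- Two elements of coprime orders commute once one centralises the other. -/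
theorem cen_mul {x v : G} (hv : v ∈ cen x) (hcop : (orderOf x).Coprime (orderOf v)) :
    cen (x * v) = cen x ⊓ cen v :=
  cen_mul_eq (mem_cen.1 hv) hcop

theorem exists_primary {x : G} (hx : x ≠ 1) :
    ∃ (p : ℕ) (u : G), p.Prime ∧ IsPEl p u ∧ u ≠ 1 ∧ u ∈ Subgroup.zpowers x ∧ cen x ≤ cen u := by
  obtain ⟨p, u, hp, hu, hu1, hup⟩ :=
    exists_primary_notMem (C := (⊥ : Subgroup G)) (fun h => hx (Subgroup.mem_bot.1 h))
  exact ⟨p, u, hp, hup, fun h => hu1 (Subgroup.mem_bot.2 h), hu, cen_le_of_mem_zpowers hu⟩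

theorem exists_pel_of_dvd {p : ℕ} (hp : p.Prime) {H : Subgroup G} (h : p ∣ Nat.card H) :
    ∃ x ∈ H, x ≠ 1 ∧ IsPEl p x ∧ orderOf x = p := by
  have := Fact.mk hp
  obtain ⟨x, hx⟩ := exists_prime_orderOf_dvd_card' p h
  rw [← Subgroup.orderOf_coe] at hx
  refine ⟨x, x.2, fun e => ?_, ⟨1, by rw [pow_one, ← hx, pow_orderOf_eq_one]⟩, hx⟩
  rw [e, orderOf_one] at hx
  exact hp.ne_one hx.symm

/-- A nontrivial central element of a Sylow subgroup. -/
theorem exists_central {p : ℕ} [hp : Fact p.Prime] (P : Sylow p G) (h : p ∣ Nat.card G) :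
    ∃ z ∈ (P : Subgroup G), z ≠ 1 ∧ IsPEl p z ∧ (P : Subgroup G) ≤ cen z := by
  have : Nontrivial (P : Subgroup G) :=
    (Subgroup.nontrivial_iff_ne_bot _).2 (P.ne_bot_of_dvd_card h)
  have := P.2.center_nontrivial
  obtain ⟨⟨z, hz⟩, hz1⟩ := exists_ne (1 : Subgroup.center (P : Subgroup G))
  refine ⟨z, z.2, fun e => hz1 (Subtype.ext (Subtype.ext e)), isPEl_of_mem P.2 z.2, fun g hg => ?_⟩
  exact mem_cen.2 (congrArg Subtype.val (Subgroup.mem_center_iff.1 hz ⟨g, hg⟩)).symm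

/-- The index of the centraliser of such an element is prime to `p`. -/
theorem not_dvd_idx_of_le {p : ℕ} [Fact p.Prime] (P : Sylow p G) {z : G}
    (h : (P : Subgroup G) ≤ cen z) : ¬ p ∣ idx z :=
  not_dvd_of_sylow_le P h

theorem commutative_of_primary {H : Subgroup G}
    (h : ∀ (p : ℕ) (g : G), p.Prime → g ∈ H → IsPEl p g → g ≠ 1 → H ≤ cen g) :
    ∀ x ∈ H, ∀ y ∈ H, x * y = y * x := by
  intro x hx y hy
  have key : x ∈ cen y := by
    refine CNGroup.Basic.mem_of_primePower_mem fun p m u hp hu hum => ?_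
    rcases eq_or_ne u 1 with rfl | hu1
    · exact one_mem _
    exact mem_cen_comm.1 (h p u hp (mem_of_mem_zpowers hu hx) (isPEl_of_orderOf hum) hu1 hy)
  exact (mem_cen.1 key).symm

theorem isNilpotent_of_primary {H : Subgroup G}
    (h : ∀ (p q : ℕ) (u v : G), p.Prime → q.Prime → p ≠ q → u ∈ H → v ∈ H → IsPEl p u →
      IsPEl q v → u * v = v * u) : Group.IsNilpotent H := by
  refine CNGroup.Basic.isNilpotent_of_commute fun p q m n u v hp hq hpq hu hv => Subtype.ext ?_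
  exact h p q u v hp hq hpq u.2 v.2 (isPEl_of_orderOf (k := m) (by rw [Subgroup.orderOf_coe, hu]))
    (isPEl_of_orderOf (k := n) (by rw [Subgroup.orderOf_coe, hv]))

/-- Two commuting elements with squares centralising `e`'s subgroup: if the fixed points of the two
and of their product agree, all three fix everything (odd order, abelian). -/
theorem four_fix {E : Subgroup G} [E.Normal] (hEc : ∀ x ∈ E, ∀ y ∈ E, x * y = y * x)
    (hodd : Odd (Nat.card E)) {s t : G} (hst : Commute s t)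
    (hs2 : ∀ e ∈ E, Commute (s * s) e) (ht2 : ∀ e ∈ E, Commute (t * t) e)
    (h1 : ∀ e ∈ E, Commute s e → Commute t e) (h2 : ∀ e ∈ E, Commute t e → Commute s e)
    (h3 : ∀ e ∈ E, Commute (s * t) e → Commute t e) : ∀ e ∈ E, Commute s e := by
  have hn : E.Normal := inferInstance
  have sq_one : ∀ x ∈ E, x * x = 1 → x = 1 := by
    intro x hx hxx
    have hd1 : orderOf x ∣ 2 := orderOf_dvd_of_pow_eq_one (by rw [pow_two, hxx])
    have hd2 := Subgroup.orderOf_dvd_natCard E hx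
    have : orderOf x ∣ Nat.gcd 2 (Nat.card E) := Nat.dvd_gcd hd1 hd2
    rw [Nat.Coprime.gcd_eq_one ((Nat.prime_two.coprime_iff_not_dvd).2 hodd.not_two_dvd_nat)] at this
    exact orderOf_eq_one_iff.1 (Nat.dvd_one.1 this)
  have inv2 : ∀ {r : G}, (∀ e ∈ E, Commute (r * r) e) → ∀ e ∈ E,
      r * (r * e * r⁻¹) * r⁻¹ = e := by
    intro r hr e he
    have := (hr e he).eq
    calc r * (r * e * r⁻¹) * r⁻¹ = (r * r * e) * (r⁻¹ * r⁻¹) := by group
      _ = e * (r * r) * (r⁻¹ * r⁻¹) := by rw [this]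
      _ = e := by group
  have fix_of : ∀ {r x : G}, r * x * r⁻¹ = x → Commute r x := fun {r x} h => by
    rw [mul_inv_eq_iff_eq_mul] at h; exact h
  have fix_to : ∀ {r x : G}, Commute r x → r * x * r⁻¹ = x := fun {r x} h => by
    rw [h.eq, mul_inv_cancel_right]
  have conj_mul' : ∀ (r x y : G), r * (x * y) * r⁻¹ = (r * x * r⁻¹) * (r * y * r⁻¹) :=
    fun r x y => by group
  intro e he
  -- the part inverted by `s`
  obtain ⟨j, hj⟩ : ∃ j, j = e⁻¹ * (s * e * s⁻¹) := ⟨_, rfl⟩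
  have hjE : j ∈ E := hj ▸ E.mul_mem (E.inv_mem he) (hn.conj_mem e he s)
  suffices j = 1 by
    exact fix_of (inv_mul_eq_one.1 (hj ▸ this)).symm
  have hjs : s * j * s⁻¹ = j⁻¹ := by
    rw [hj, conj_mul', inv2 hs2 e he, mul_inv_rev, inv_inv,
      show s * e⁻¹ * s⁻¹ = (s * e * s⁻¹)⁻¹ by group]
  have htj : t * j * t⁻¹ ∈ E := hn.conj_mem j hjE t
  -- `j * j^t` is fixed by `t`, hence by `s`, and inverted by `s`
  obtain ⟨f, hf⟩ : ∃ f, f = j * (t * j * t⁻¹) := ⟨_, rfl⟩
  have hfE : f ∈ E := hf ▸ E.mul_mem hjE htj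
  have hft : Commute t f := fix_of (by
    rw [hf, conj_mul', inv2 ht2 j hjE, hEc _ htj _ hjE])
  have hsf : s * f * s⁻¹ = f⁻¹ := by
    have e2 : s * (t * j * t⁻¹) * s⁻¹ = t * (s * j * s⁻¹) * t⁻¹ := by
      calc s * (t * j * t⁻¹) * s⁻¹ = (s * t) * j * (s * t)⁻¹ := by group
        _ = (t * s) * j * (t * s)⁻¹ := by rw [hst.eq]
        _ = t * (s * j * s⁻¹) * t⁻¹ := by group
    rw [hf, conj_mul', e2, hjs, hEc j hjE _ htj]
    group
  have hf1 : f = 1 := sq_one f hfE (by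
    have := fix_to (h2 f hfE hft)
    rw [hsf] at this
    nth_rewrite 1 [← this]
    exact inv_mul_cancel f)
  have htj' : t * j * t⁻¹ = j⁻¹ := eq_inv_of_mul_eq_one_right (hf ▸ hf1)
  have hst' : Commute (s * t) j := fix_of (by
    calc s * t * j * (s * t)⁻¹ = s * (t * j * t⁻¹) * s⁻¹ := by group
      _ = (s * j * s⁻¹)⁻¹ := by rw [htj']; group
      _ = j := by rw [hjs, inv_inv])
  refine sq_one j hjE ?_
  have := fix_to (h3 j hjE hst')
  rw [htj'] at this
  nth_rewrite 1 [← this]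
  exact inv_mul_cancel j

/-- A nontrivial solvable normal subgroup contains a nontrivial abelian normal subgroup. -/
theorem exists_abelian_normal_le {S : Subgroup G} [hSn : S.Normal] (hS : Group.IsSolvable S)
    (hne : S ≠ ⊥) : ∃ E : Subgroup G, E.Normal ∧ E ≠ ⊥ ∧ E ≤ S ∧ ∀ x ∈ E, ∀ y ∈ E, x * y = y * x := by
  classical
  have := (Subgroup.nontrivial_iff_ne_bot S).2 hne
  have hex : ∃ m, derivedSeries S m = ⊥ := (Group.isSolvable_def S).1 hS
  have h0 : Nat.find hex ≠ 0 := by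
    intro h
    have := Nat.find_spec hex
    rw [h, derivedSeries_zero] at this
    exact top_ne_bot this
  obtain ⟨m, hm⟩ := Nat.exists_eq_succ_of_ne_zero h0
  have hC1 : derivedSeries S m ≠ ⊥ := Nat.find_min hex (by omega)
  have hC2 : ⁅derivedSeries S m, derivedSeries S m⁆ = ⊥ := by
    have := Nat.find_spec hex
    rwa [hm, derivedSeries_succ] at this
  refine ⟨(derivedSeries S m).map S.subtype, inferInstance, ?_, Subgroup.map_subtype_le _, ?_⟩
  · rwa [Ne, Subgroup.map_eq_bot_iff_of_injective _ S.subtype_injective]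
  · rintro _ ⟨x, hx, rfl⟩ _ ⟨y, hy, rfl⟩
    have h := Subgroup.commutator_mem_commutator hx hy
    rw [hC2, Subgroup.mem_bot, commutatorElement_eq_one_iff_mul_comm] at h
    exact congrArg Subtype.val h

end Cfsg.Agent.Lib.RankThree72
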