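import Cfsg.Agent.Lib.RankThree72.Nested
import Cfsg.Agent.Lib.SzDegrees.CC
import Cfsg.Agent.Lib.SylowNumbers.Basic

/-!
# An abelian centraliser of size-`c` elements is a nilpotent Hall subgroup equal to its centralisers
-/

set_option autoImplicit false
set_option linter.style.haveILetI false

namespace Cfsg.Agent.Lib.RankThree72

open Cfsg.Agent.Lib.ClassSizes.Basic Cfsg.Agent.Lib.ClassSizes.CopTools
open Cfsg.Agent.Lib.PrimePowerClass.Radical

universe u

variable {G : Type u} [Group G] [Finite G] {a b c : ℕ}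

theorem card_cen_eq_of_idx {x y : G} (h : idx x = idx y) : Nat.card (cen x) = Nat.card (cen y) := by
  have h1 := card_cen_mul_idx x
  rw [h, ← card_cen_mul_idx y] at h1
  exact Nat.eq_of_mul_eq_mul_right (Nat.pos_of_ne_zero Subgroup.index_ne_zero_of_finite) h1

/-- An involution inverting an element of odd order moves to its conjugate inside that cyclic group. -/
theorem exists_conj_fix {z g : G} (hz : z * z = 1) (hodd : Odd (orderOf (g * z * g⁻¹ * z))) :
    ∃ x ∈ Subgroup.zpowers (g * z * g⁻¹ * z), x⁻¹ * g ∈ cen z := by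
  obtain ⟨x, hxdef⟩ : ∃ x, x = g * z * g⁻¹ * z := ⟨_, rfl⟩
  rw [← hxdef] at hodd ⊢
  obtain ⟨m, hm⟩ := hodd
  refine ⟨x ^ (m + 1), pow_mem (Subgroup.mem_zpowers x) _, mem_cen.2 ?_⟩
  have hgz : (g * z * g⁻¹) * (g * z * g⁻¹) = 1 := by
    calc (g * z * g⁻¹) * (g * z * g⁻¹) = g * (z * z) * g⁻¹ := by group
      _ = 1 := by rw [hz]; group
  have hzinv : z * x * z = x⁻¹ := by
    rw [hxdef, mul_inv_rev, inv_eq_of_mul_eq_one_right hz, inv_eq_of_mul_eq_one_right hgz]
    simp only [mul_assoc, hz, mul_one]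
  have hzy : z * x ^ (m + 1) = (x ^ (m + 1))⁻¹ * z := by
    have := Involutions.Basic.invert_zpow hz hzinv ((m + 1 : ℕ) : ℤ)
    rw [zpow_natCast, zpow_neg, zpow_natCast] at this
    rw [← this]
    simp only [mul_assoc, hz, mul_one]
  have hyy : x ^ (m + 1) * x ^ (m + 1) = x := by
    rw [← pow_add, show m + 1 + (m + 1) = orderOf x + 1 by omega, pow_add, pow_orderOf_eq_one,
      one_mul, pow_one]
  have hgz' : g * z * g⁻¹ = x * z := by rw [hxdef, mul_assoc _ z z, hz, mul_one]
  calc z * ((x ^ (m + 1))⁻¹ * g) = (z * (x ^ (m + 1))⁻¹) * g := by rw [mul_assoc]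
    _ = (x ^ (m + 1) * z) * g := by
      congr 1
      rw [mul_inv_eq_iff_eq_mul, mul_assoc, hzy, mul_inv_cancel_left]
    _ = (x ^ (m + 1))⁻¹ * (x ^ (m + 1) * x ^ (m + 1) * z) * g := by group
    _ = (x ^ (m + 1))⁻¹ * g * z := by rw [hyy, ← hgz']; group

/-- The data of the CC case. -/
structure CCData (G : Type u) [Group G] (a b c : ℕ) (D : Subgroup G) : Prop where
  sizes : Sizes G a b c
  ncb : ¬ c ∣ b
  comm : ∀ x ∈ D, ∀ y ∈ D, x * y = y * x
  isCC : SzDegrees.IsCC D
  idx_eq : ∀ d ∈ D, d ≠ 1 → idx d = c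
  card : Nat.card D = a

/-- The abelian centraliser gives the CC data. -/
theorem exists_ccData (S : Sizes G a b c) (hcb : ¬ c ∣ b) : ∃ D : Subgroup G, CCData G a b c D := by
  obtain ⟨p, w, hp, hwp, hw, hcomm⟩ := S.exists_abelian_c hcb
  obtain ⟨D, hD⟩ : ∃ D, D = cen w := ⟨_, rfl⟩
  rw [← hD] at hcomm
  have hidx : ∀ d ∈ D, d ≠ 1 → idx d = c := fun d hd hd1 =>
    S.c_of_dvd hd1 (hw ▸ Subgroup.index_dvd_of_le fun g hg =>
      mem_cen.2 (hcomm d hd g (hD ▸ hg)))
  have hcc : SzDegrees.IsCC D := fun d hd hd1 => by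
    rw [hD]
    exact (cen_eq_of_idx (fun g hg => mem_cen.2 (hcomm d hd g (hD ▸ hg)))
      (hw.trans (hidx d hd hd1).symm)).symm
  refine ⟨D, S, hcb, hcomm, hcc, hidx, ?_⟩
  have hDc : Nat.card D * c = Nat.card G := by rw [hD, ← hw]; exact card_cen_mul_idx w
  -- `D` is a Hall subgroup
  have hall : ∀ q : ℕ, q.Prime → q ∣ Nat.card D → ∃ Q : Sylow q G, (Q : Subgroup G) ≤ D := by
    intro q hq hqD
    haveI := Fact.mk hq
    obtain ⟨d, hd, hd1, hdq, -⟩ := exists_pel_of_dvd hq hqD
    obtain ⟨Q, hQ⟩ := (hdq.isPGroup hq).exists_le_sylow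
    obtain ⟨z, hz, hz1, -, hQz⟩ := exists_central Q (hqD.trans (Subgroup.card_subgroup_dvd_card D))
    have hzD : z ∈ D := (hcc d hd hd1).le (mem_cen_comm.1 (hQz (hQ (Subgroup.mem_zpowers d))))
    exact ⟨Q, hQz.trans (hcc z hzD hz1).le⟩
  obtain ⟨xa, hxa⟩ := S.exists_a
  have hxa1 := S.ne_one_of_idx (Or.inl hxa)
  have hca : Nat.card (cen xa) * a = Nat.card D * c := by
    rw [hDc, ← hxa]; exact card_cen_mul_idx xa
  have hcop : (Nat.card D).Coprime (Nat.card (cen xa)) := Nat.coprime_of_dvd fun q hq h1 h2 => by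
    haveI := Fact.mk hq
    obtain ⟨Q, hQ⟩ := hall q hq h1
    obtain ⟨v, hv, hv1, hvq, -⟩ := exists_pel_of_dvd hq h2
    obtain ⟨g, hg⟩ := ClassSizesFour21.exists_conj_mem hvq Q
    have h3 : idx v = c := (conj_idx' g v).symm.trans
      (hidx _ (hQ hg) fun e => hv1 (conj_eq_one_iff.1 e))
    have h4 : g * xa * g⁻¹ ∈ D := (hcc _ (hQ hg) fun e => hv1 (conj_eq_one_iff.1 e)).le
      (mem_cen.2 (by
        have := mem_cen.1 hv
        calc g * v * g⁻¹ * (g * xa * g⁻¹) = g * (v * xa) * g⁻¹ := by group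
          _ = g * (xa * v) * g⁻¹ := by rw [← this]
          _ = g * xa * g⁻¹ * (g * v * g⁻¹) := by group))
    exact S.a_ne_c ((hxa.symm.trans (conj_idx' g xa).symm).trans
      (hidx _ h4 fun e => hxa1 (conj_eq_one_iff.1 e)))
  exact dvd_antisymm (hcop.dvd_of_dvd_mul_left ⟨c, hca⟩)
    (S.cop.dvd_of_dvd_mul_right ⟨_, hca.symm.trans (mul_comm _ _)⟩)

namespace CCData

variable {D : Subgroup G}

theorem card_mul (h : CCData G a b c D) : a * c = Nat.card G := by
  obtain ⟨d, hd, hd1⟩ : ∃ d ∈ D, d ≠ 1 := by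
    by_contra hcon
    push Not at hcon
    have := h.card
    rw [(Subgroup.eq_bot_iff_forall D).2 hcon, Subgroup.card_bot] at this
    have := h.sizes.one_lt_a
    omega
  rw [← h.card, ← h.idx_eq d hd hd1]
  conv_lhs => rw [show D = cen d from (h.isCC d hd hd1).symm]
  exact card_cen_mul_idx d

theorem index_eq (h : CCData G a b c D) : D.index = c := by
  have h1 := D.card_mul_index
  rw [h.card, ← h.card_mul] at h1
  exact Nat.eq_of_mul_eq_mul_left (by have := h.sizes.one_lt_a; omega) h1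

theorem card_cen_a (h : CCData G a b c D) {y : G} (hy : idx y = a) : Nat.card (cen y) = c := by
  have h1 := card_cen_mul_idx y
  rw [hy, ← h.card_mul, mul_comm a c] at h1
  exact Nat.eq_of_mul_eq_mul_right (by have := h.sizes.one_lt_a; omega) h1

theorem exists_conj_mem (h : CCData G a b c D) {p : ℕ} [Fact p.Prime] (hpa : p ∣ a) {x : G}
    (hx : IsPEl p x) : ∃ g : G, g * x * g⁻¹ ∈ D := by
  obtain ⟨P⟩ := (inferInstance : Nonempty (Sylow p D))
  have hi : ¬ p ∣ ((P : Subgroup D).map D.subtype).index := by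
    rw [Subgroup.index_map_subtype, h.index_eq]
    intro hd
    rcases (Fact.out : p.Prime).dvd_mul.1 hd with h1 | h1
    · exact P.not_dvd_index h1
    · exact (Fact.out : p.Prime).ne_one (Nat.eq_one_of_dvd_coprimes h.sizes.cop hpa h1)
  obtain ⟨g, hg⟩ := ClassSizesFour21.exists_conj_mem hx ((P.2.map D.subtype).toSylow hi)
  obtain ⟨y, -, hy⟩ := hg
  exact ⟨g, by rw [← hy]; exact y.2⟩

/-- A primary element has size `c` exactly when its prime divides `a`. -/
theorem prime_dvd_iff (h : CCData G a b c D) {p : ℕ} (hp : p.Prime) {x : G} (hx : IsPEl p x)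
    (hx1 : x ≠ 1) : p ∣ a ↔ idx x = c := by
  haveI := Fact.mk hp
  constructor
  · intro hpa
    obtain ⟨g, hg⟩ := h.exists_conj_mem hpa hx
    rw [← conj_idx' g x]
    exact h.idx_eq _ hg fun e => hx1 (conj_eq_one_iff.1 e)
  · intro hxc
    have h1 := card_cen_mul_idx x
    rw [hxc, ← h.card_mul] at h1
    have h2 := Nat.eq_of_mul_eq_mul_right (by have := h.sizes.one_lt_c; omega) h1
    exact h2 ▸ (prime_dvd_orderOf hp hx hx1).trans
      (Subgroup.orderOf_dvd_natCard (cen x) (self_mem_cen x))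

theorem orderOf_dvd_a (h : CCData G a b c D) {y : G} (hy : idx y = a) : orderOf y ∣ c :=
  h.card_cen_a hy ▸ Subgroup.orderOf_dvd_natCard (cen y) (self_mem_cen y)

/-- A normal subgroup of order prime to `a` centralises every element of size `a`. -/
theorem le_cen_of_coprime (h : CCData G a b c D) {K : Subgroup G} [K.Normal]
    (hK : (Nat.card K).Coprime a) {y : G} (hy : idx y = a) : K ≤ cen y := by
  have h1 : (cen y).relIndex K ∣ a :=
    hy ▸ SylowNumbers.Basic.relIndex_dvd_index_of_normal_right _ _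
  exact Subgroup.relIndex_eq_one.1
    (Nat.eq_one_of_dvd_coprimes hK (Subgroup.relIndex_dvd_card _ _) h1)

theorem solvable_of_coprime (h : CCData G a b c D) {K : Subgroup G} [K.Normal]
    (hK : (Nat.card K).Coprime a) : Group.IsSolvable K := by
  obtain ⟨y, hy⟩ := h.sizes.exists_a
  haveI := h.sizes.cen_solvable h.ncb (h.sizes.ne_one_of_idx (Or.inl hy))
  exact Group.isSolvable_of_isSolvable_injective
    (Subgroup.inclusion_injective (h.le_cen_of_coprime hK hy))

theorem conj_D (h : CCData G a b c D) {g d : G} (hd : d ∈ D) (hd1 : d ≠ 1)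
    (hg : g * d * g⁻¹ ∈ D) : g ∈ Subgroup.normalizer (D : Set G) := by
  have key : ∀ x : G, x ∈ D ↔ g * x * g⁻¹ ∈ D := fun x => by
    have e1 : x ∈ D ↔ x ∈ cen d := by rw [show cen d = D from h.isCC d hd hd1]
    have e2 : g * x * g⁻¹ ∈ D ↔ g * x * g⁻¹ ∈ cen (g * d * g⁻¹) := by
      rw [show cen (g * d * g⁻¹) = D from h.isCC _ hg fun e => hd1 (conj_eq_one_iff.1 e)]
    rw [e1, e2, mem_cen_conj]
    simp [mul_assoc]
  exact Subgroup.mem_normalizer_iff.2 key

theorem exists_ne_one (h : CCData G a b c D) : ∃ d ∈ D, d ≠ 1 := by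
  by_contra hcon
  push Not at hcon
  have := h.card
  rw [(Subgroup.eq_bot_iff_forall D).2 hcon, Subgroup.card_bot] at this
  exact h.sizes.one_lt_a.ne this

/-- In a nonsolvable normal subgroup containing `D`, `D` is not self-normalising. -/
theorem exists_normalizer (h : CCData G a b c D) {M : Subgroup G} [M.Normal] (hDM : D ≤ M)
    (hM : ¬ Group.IsSolvable M) : ∃ w ∈ Subgroup.normalizer (D : Set G), w ∈ M ∧ w ∉ D := by
  by_contra hcon
  push Not at hcon
  have hcop : (Nat.card ((commutator M).map M.subtype)).Coprime a := by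
    rw [Subgroup.card_map_of_injective M.subtype_injective]
    refine Nat.coprime_of_dvd fun p hp h1 hpa => ?_
    haveI := Fact.mk hp
    obtain ⟨P⟩ := (inferInstance : Nonempty (Sylow p D))
    obtain ⟨Q, hQ⟩ := ((P.2.map (Subgroup.inclusion hDM))).exists_le_sylow (G := M)
    have hQD : ∀ x ∈ (Q : Subgroup M), (x : G) ∈ D := by
      intro x hx
      have heq : (Q : Subgroup M) = (P : Subgroup D).map (Subgroup.inclusion hDM) := by
        refine (Subgroup.eq_of_le_of_card_ge hQ ?_).symm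
        rw [Subgroup.card_map_of_injective (Subgroup.inclusion_injective hDM)]
        refine Nat.le_of_dvd Nat.card_pos ?_
        rw [P.card_eq_multiplicity]
        obtain ⟨j, hj⟩ := Q.2.exists_card_eq
        rw [hj]
        refine pow_dvd_pow p ?_
        have hd : p ^ j ∣ Nat.card G := hj ▸ (Subgroup.card_subgroup_dvd_card _).trans
          (Subgroup.card_subgroup_dvd_card M)
        rw [← h.card_mul] at hd
        have hd' : p ^ j ∣ a := (Nat.Coprime.pow_left j ((hp.coprime_iff_not_dvd).2 fun hc =>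
          hp.ne_one (Nat.eq_one_of_dvd_coprimes h.sizes.cop hpa hc))).dvd_of_dvd_mul_right hd
        rw [h.card]
        exact (hp.pow_dvd_iff_le_factorization (by have := h.sizes.one_lt_a; omega)).1 hd'
      rw [heq] at hx
      obtain ⟨y, -, rfl⟩ := hx
      exact y.2
    have hN : Subgroup.normalizer ((Q : Subgroup M) : Set M) ≤
        Subgroup.centralizer ((Q : Subgroup M) : Set M) := by
      intro x hx
      rcases eq_or_ne (Q : Subgroup M) ⊥ with hb | hb
      · rw [hb]; exact Subgroup.mem_centralizer_iff.2 fun y hy => by simp [Subgroup.mem_bot.1 hy]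
      obtain ⟨⟨z, hz⟩, hz1⟩ := Subgroup.ne_bot_iff_exists_ne_one.1 hb
      have hz1' : (z : G) ≠ 1 := fun e => hz1 (Subtype.ext (Subtype.ext e))
      have hxN := h.conj_D (hQD z hz) hz1'
        (hQD _ ((Subgroup.mem_normalizer_iff.1 hx z).1 hz))
      exact Subgroup.mem_centralizer_iff.2 fun y hy =>
        Subtype.ext (h.comm y (hQD y hy) x (hcon x hxN x.2))
    haveI := MonoidHom.ker_transferSylow_isComplement' Q hN
    have hle : commutator M ≤ (MonoidHom.transferSylow Q hN).ker := by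
      rw [commutator_def, Subgroup.commutator_le]
      intro x _ y _
      rw [MonoidHom.mem_ker, map_commutatorElement, commutatorElement_eq_one_iff_mul_comm]
      exact Subtype.ext (Subtype.ext (h.comm _ (hQD _ (Subtype.prop _)) _ (hQD _ (Subtype.prop _))))
    exact MonoidHom.not_dvd_card_ker_transferSylow Q hN (h1.trans (Subgroup.card_dvd_of_le hle))
  haveI := h.solvable_of_coprime hcop
  haveI : Group.IsSolvable (commutator M) := Group.isSolvable_of_isSolvable_injective
    (f := ((commutator M).equivMapOfInjective M.subtype M.subtype_injective).toMonoidHom)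
    ((commutator M).equivMapOfInjective M.subtype M.subtype_injective).injective
  haveI : Group.IsSolvable (M ⧸ commutator M) :=
    Group.isSolvable_of_comm fun x y => mul_comm (G := Abelianization M) x y
  exact hM (Group.isSolvable_of_ker_le_range (commutator M).subtype (QuotientGroup.mk' (commutator M))
    (by rw [QuotientGroup.ker_mk', Subgroup.range_subtype]))

theorem le_commutator (h : CCData G a b c D) {M : Subgroup G} [M.Normal] (hDM : D ≤ M)
    (hM : ¬ Group.IsSolvable M) : D ≤ ⁅M, M⁆ := by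
  obtain ⟨w, hwN, hwM, hwD⟩ := h.exists_normalizer hDM hM
  let φ : D → D := fun d => ⟨w * d * w⁻¹ * (d : G)⁻¹,
    D.mul_mem ((Subgroup.mem_normalizer_iff.1 hwN d).1 d.2) (D.inv_mem d.2)⟩
  have hinj : Function.Injective φ := by
    intro x y hxy
    by_contra hne
    have h1 : w * x * w⁻¹ * (x : G)⁻¹ = w * y * w⁻¹ * (y : G)⁻¹ := congrArg Subtype.val hxy
    have hd : (y : G)⁻¹ * x ∈ D := D.mul_mem (D.inv_mem y.2) x.2
    have hd1 : (y : G)⁻¹ * x ≠ 1 := fun e => hne (Subtype.ext (inv_mul_eq_one.1 e).symm)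
    refine hwD ((h.isCC _ hd hd1).le (Subgroup.mem_centralizer_singleton_iff.2 ?_))
    rw [← mul_inv_eq_iff_eq_mul]
    have h2 : w * x * w⁻¹ = w * y * w⁻¹ * (y : G)⁻¹ * x := mul_inv_eq_iff_eq_mul.1 h1
    calc w * ((y : G)⁻¹ * x) * w⁻¹ = (w * y * w⁻¹)⁻¹ * (w * x * w⁻¹) := by group
      _ = (y : G)⁻¹ * x := by rw [h2]; group
  intro d hd
  obtain ⟨x, hx⟩ := (Finite.injective_iff_surjective.1 hinj) ⟨d, hd⟩
  have h1 : w * x * w⁻¹ * (x : G)⁻¹ = d := congrArg Subtype.val hx
  rw [← h1, ← commutatorElement_def]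
  exact Subgroup.commutator_mem_commutator hwM (hDM x.2)

theorem le_derivedSeries (h : CCData G a b c D) : ∀ n, D ≤ derivedSeries G n ∧
    ¬ Group.IsSolvable (derivedSeries G n)
  | 0 => ⟨le_top.trans (derivedSeries_zero G).ge, fun hs => h.sizes.notSolv (by
      rw [derivedSeries_zero] at hs
      exact Group.isSolvable_of_isSolvable_injective (Subgroup.topEquiv (G := G)).symm.injective
        (f := (Subgroup.topEquiv (G := G)).symm.toMonoidHom))⟩
  | n + 1 => by
    obtain ⟨h1, h2⟩ := h.le_derivedSeries n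
    rw [derivedSeries_succ]
    refine ⟨h.le_commutator h1 h2, fun hs => h2 ?_⟩
    haveI : Group.IsSolvable (commutator (derivedSeries G n)) := by
      haveI := hs
      refine Group.isSolvable_of_isSolvable_injective
        (f := ((derivedSeries G n).subtype.comp (commutator (derivedSeries G n)).subtype).codRestrict
          ⁅derivedSeries G n, derivedSeries G n⁆ fun x => ?_) ?_
      · rw [← Subgroup.map_subtype_commutator]
        exact ⟨_, x.2, rfl⟩
      · exact fun x y e => Subtype.ext (Subtype.ext (congrArg Subtype.val e : _))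
    haveI : Group.IsSolvable (derivedSeries G n ⧸ commutator (derivedSeries G n)) :=
      Group.isSolvable_of_comm fun x y => mul_comm (G := Abelianization (derivedSeries G n)) x y
    exact Group.isSolvable_of_ker_le_range (commutator (derivedSeries G n)).subtype
      (QuotientGroup.mk' (commutator (derivedSeries G n))) (by rw [QuotientGroup.ker_mk', Subgroup.range_subtype])

theorem le_of_quotient_solvable (h : CCData G a b c D) {L : Subgroup G} [L.Normal]
    (hL : Group.IsSolvable (G ⧸ L)) : D ≤ L := by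
  obtain ⟨n, hn⟩ := (Group.isSolvable_def _).1 hL
  refine (h.le_derivedSeries n).1.trans ?_
  have h1 := map_derivedSeries_le_derivedSeries (QuotientGroup.mk' L) n
  rw [hn, le_bot_iff, Subgroup.map_eq_bot_iff, QuotientGroup.ker_mk'] at h1
  exact h1

theorem normalizer_solvable (h : CCData G a b c D) :
    Group.IsSolvable (Subgroup.normalizer (D : Set G)) := by
  set N := Subgroup.normalizer (D : Set G) with hN
  haveI : Group.IsSolvable (D.subgroupOf N) := Group.isSolvable_of_comm fun x y =>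
    Subtype.ext (Subtype.ext (h.comm _ x.2 _ y.2))
  haveI : (D.subgroupOf N).Normal := Subgroup.normal_in_normalizer
  suffices Group.IsSolvable (N ⧸ D.subgroupOf N) from Group.isSolvable_of_ker_le_range
    (D.subgroupOf N).subtype (QuotientGroup.mk' _)
    (by rw [QuotientGroup.ker_mk', Subgroup.range_subtype])
  by_cases hodd : Odd (D.subgroupOf N).index
  · exact OddOrder.FeitThompson.isSolvable_of_odd_card (by rwa [← Subgroup.index_eq_card])
  have hidx : (D.subgroupOf N).index ∣ c := h.index_eq ▸ Subgroup.relIndex_dvd_index_of_le (Subgroup.le_normalizer)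
  have h2c : 2 ∣ c := (even_iff_two_dvd.1 (Nat.not_odd_iff_even.1 hodd)).trans hidx
  have h2a : ¬ 2 ∣ a := fun ha => Nat.prime_two.ne_one (Nat.eq_one_of_dvd_coprimes h.sizes.cop ha h2c)
  haveI : Fact (Nat.Prime 2) := ⟨Nat.prime_two⟩
  obtain ⟨i, hi⟩ := exists_prime_orderOf_dvd_card' (G := N) 2
    ((even_iff_two_dvd.1 (Nat.not_odd_iff_even.1 hodd)).trans (Dvd.intro_left _ (D.subgroupOf N).card_mul_index))
  rw [← Subgroup.orderOf_coe] at hi
  have hii := Involutions.Basic.invol_mul_self hi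
  have hinv : ∀ g : G, g * g = 1 → g ≠ 1 → g ∈ N → ∀ d ∈ D, g * d * g⁻¹ = d⁻¹ := by
    intro g hg hg1 hgN d hd
    by_contra hne
    have hf : d * (g * d * g⁻¹) ∈ D := D.mul_mem hd ((Subgroup.mem_normalizer_iff.1 hgN d).1 hd)
    have hf1 : d * (g * d * g⁻¹) ≠ 1 := fun e => hne (eq_inv_of_mul_eq_one_right e)
    have hgD : g ∈ D := (h.isCC _ hf hf1).le (mem_cen.2 (mul_inv_eq_iff_eq_mul.1 (by
      calc g * (d * (g * d * g⁻¹)) * g⁻¹ = (g * d * g⁻¹) * ((g * g) * d * (g * g)⁻¹) := by group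
        _ = d * (g * d * g⁻¹) := by
          rw [hg, one_mul, inv_one, mul_one,
            h.comm _ ((Subgroup.mem_normalizer_iff.1 hgN d).1 hd) d hd])).symm)
    have h2 : orderOf g = 2 := orderOf_eq_prime (by rw [pow_two, hg]) hg1
    exact h2a (h.card ▸ h2 ▸ Subgroup.orderOf_dvd_natCard D hgD)
  obtain ⟨d₀, hd₀, hd₀1⟩ := h.exists_ne_one
  have hi1 := Involutions.Basic.invol_ne_one hi
  have hfac : ∀ g : N, ∃ x ∈ D.subgroupOf N, ((x⁻¹ * g : N) : G) ∈ cen (i : G) := by
    intro g
    have hj : (g : G) * i * (g : G)⁻¹ ∈ N := N.mul_mem (N.mul_mem g.2 i.2) (N.inv_mem g.2)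
    have hjj : ((g : G) * i * (g : G)⁻¹) * ((g : G) * i * (g : G)⁻¹) = 1 := by
      calc _ = (g : G) * ((i : G) * i) * (g : G)⁻¹ := by group
        _ = 1 := by rw [hii]; group
    have hxD : (g : G) * i * (g : G)⁻¹ * i ∈ D := by
      refine (h.isCC d₀ hd₀ hd₀1).le (mem_cen.2 ?_)
      have h1 := hinv i hii hi1 i.2 d₀ hd₀
      have h2 := hinv _ hjj (fun e => hi1 (conj_eq_one_iff.1 e)) hj d₀⁻¹ (D.inv_mem hd₀)
      rw [inv_inv, ← h1] at h2
      refine (mul_inv_eq_iff_eq_mul.1 ?_).symm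
      calc (g : G) * i * (g : G)⁻¹ * i * d₀ * ((g : G) * i * (g : G)⁻¹ * i)⁻¹
          = (g : G) * i * (g : G)⁻¹ * ((i : G) * d₀ * (i : G)⁻¹) * ((g : G) * i * (g : G)⁻¹)⁻¹ := by
            group
        _ = d₀ := h2
    obtain ⟨x, hx, hxg⟩ := exists_conj_fix (z := (i : G)) (g := (g : G)) hii (by
      refine Nat.not_even_iff_odd.1 fun he => h2a ?_
      rw [← h.card]
      exact (even_iff_two_dvd.1 he).trans (Subgroup.orderOf_dvd_natCard D hxD))
    have hxD' : x ∈ D := (Subgroup.zpowers_le.2 hxD) hx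
    exact ⟨⟨x, Subgroup.le_normalizer hxD'⟩, hxD', by simpa using hxg⟩
  haveI := h.sizes.cen_solvable h.ncb hi1
  haveI : Group.IsSolvable ((cen (i : G)).subgroupOf N) :=
    Group.isSolvable_of_isSolvable_injective
      (f := (N.subtype.comp ((cen (i : G)).subgroupOf N).subtype).codRestrict (cen (i : G))
        fun x => x.2) (fun x y e => Subtype.ext (Subtype.ext (congrArg Subtype.val e : _)))
  refine Group.isSolvable_of_surjective
    (f := (QuotientGroup.mk' (D.subgroupOf N)).comp ((cen (i : G)).subgroupOf N).subtype) fun q => ?_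
  induction q using QuotientGroup.induction_on with | _ g => ?_
  obtain ⟨x, hx, hg⟩ := hfac g
  refine ⟨⟨x⁻¹ * g, Subgroup.mem_subgroupOf.2 hg⟩, ?_⟩
  simp [QuotientGroup.mk_mul, (QuotientGroup.eq_one_iff x).2 hx]

/-- A normal subgroup has order prime to `a` or contains `D`. -/
theorem coprime_or_le (h : CCData G a b c D) (L : Subgroup G) [hL : L.Normal] :
    (Nat.card L).Coprime a ∨ D ≤ L := by
  by_cases hcop : (Nat.card L).Coprime a
  · exact Or.inl hcop
  right
  obtain ⟨p, hp, hpL, hpa⟩ := Nat.Prime.not_coprime_iff_dvd.1 hcop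
  haveI := Fact.mk hp
  obtain ⟨x, hxL, hx1, hxp, -⟩ := exists_pel_of_dvd hp hpL
  obtain ⟨g, hg⟩ := h.exists_conj_mem hpa hxp
  obtain ⟨d, hd⟩ : ∃ d, d = g * x * g⁻¹ := ⟨_, rfl⟩
  rw [← hd] at hg
  have hdL : d ∈ L := hd ▸ hL.conj_mem x hxL g
  have hd1 : d ≠ 1 := fun e => hx1 (conj_eq_one_iff.1 (hd.symm.trans e))
  have hdp : IsPEl p (⟨d, hdL⟩ : L) := by
    obtain ⟨k, hk⟩ := hd ▸ ClassSizesFour21.conj_isPEl hxp g
    exact ⟨k, Subtype.ext (by rw [SubmonoidClass.coe_pow]; exact hk)⟩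
  obtain ⟨Q, hQ⟩ := (hdp.isPGroup hp).exists_le_sylow
  have hdQ : d ∈ (Q : Subgroup L).map L.subtype := ⟨_, hQ (Subgroup.mem_zpowers _), rfl⟩
  have hQD : (Q : Subgroup L).map L.subtype ≤ D := by
    haveI : Nontrivial ((Q : Subgroup L).map L.subtype) :=
      ⟨⟨d, hdQ⟩, 1, fun e => hd1 (congrArg Subtype.val e)⟩
    have := (Q.2.map L.subtype).center_nontrivial
    obtain ⟨⟨z, hz⟩, hz1⟩ := exists_ne (1 : Subgroup.center ((Q : Subgroup L).map L.subtype))
    have hzc := Subgroup.mem_center_iff.1 hz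
    have hz1' : (z : G) ≠ 1 := fun e => hz1 (Subtype.ext (Subtype.ext e))
    have hzD : (z : G) ∈ D := (h.isCC d hg hd1).le
      (mem_cen.2 (congrArg Subtype.val (hzc ⟨d, hdQ⟩)))
    exact fun y hy => (h.isCC _ hzD hz1').le
      (mem_cen.2 (congrArg Subtype.val (hzc ⟨y, hy⟩)).symm)
  have hsup := Sylow.normalizer_sup_eq_top Q
  have hN : Subgroup.normalizer (((Q : Subgroup L).map L.subtype : Subgroup G) : Set G) ≤
      Subgroup.normalizer (D : Set G) := fun k hk =>
    h.conj_D hg hd1 (hQD ((Subgroup.mem_normalizer_iff.1 hk d).1 hdQ))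
  haveI := h.normalizer_solvable
  refine h.le_of_quotient_solvable (Group.isSolvable_of_surjective
    (f := (QuotientGroup.mk' L).comp (Subgroup.normalizer (D : Set G)).subtype) fun q => ?_)
  induction q using QuotientGroup.induction_on with | _ k => ?_
  obtain ⟨m, hm, l, hl, rfl⟩ := Subgroup.mem_sup_of_normal_right.1 (hsup ▸ Subgroup.mem_top k)
  refine ⟨⟨m, hN hm⟩, ?_⟩
  rw [QuotientGroup.mk_mul, (QuotientGroup.eq_one_iff l).2 hl, mul_one]
  rfl

/-- A normal subgroup is solvable or contains `D`. -/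
theorem le_or_solvable (h : CCData G a b c D) (L : Subgroup G) [L.Normal] :
    L ≤ solRad G ∨ D ≤ L :=
  (h.coprime_or_le L).imp_left fun hcop => le_solRad (h.solvable_of_coprime hcop)

/-- The radical does not contain `D`. -/
theorem radical_coprime (h : CCData G a b c D) : ¬ D ≤ solRad G := by
  intro hle
  haveI := h.normalizer_solvable
  have hne : ¬ (Nat.card (solRad G)).Coprime a := fun hcop => by
    have h1 := h.card ▸ Subgroup.card_dvd_of_le hle
    exact h.sizes.one_lt_a.ne' (Nat.eq_one_of_dvd_coprimes hcop h1 dvd_rfl)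
  obtain ⟨p, hp, hpR, hpa⟩ := Nat.Prime.not_coprime_iff_dvd.1 hne
  haveI := Fact.mk hp
  obtain ⟨P⟩ := (inferInstance : Nonempty (Sylow p D))
  obtain ⟨Q, hQ⟩ := (P.2.map (Subgroup.inclusion hle)).exists_le_sylow (G := solRad G)
  obtain ⟨⟨d, hdP⟩, hd1⟩ := (Subgroup.ne_bot_iff_exists_ne_one).1
    (P.ne_bot_of_dvd_card (h.card.symm ▸ hpa))
  have hd1' : (d : G) ≠ 1 := fun e => hd1 (Subtype.ext (Subtype.ext e))
  have hdQ : (d : G) ∈ (Q : Subgroup (solRad G)).map (solRad G).subtype :=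
    ⟨_, hQ ⟨d, hdP, rfl⟩, rfl⟩
  have hQD : (Q : Subgroup (solRad G)).map (solRad G).subtype ≤ D := by
    haveI : Nontrivial ((Q : Subgroup (solRad G)).map (solRad G).subtype) :=
      ⟨⟨d, hdQ⟩, 1, fun e => hd1' (congrArg Subtype.val e)⟩
    have := (Q.2.map (solRad G).subtype).center_nontrivial
    obtain ⟨⟨z, hz⟩, hz1⟩ :=
      exists_ne (1 : Subgroup.center ((Q : Subgroup (solRad G)).map (solRad G).subtype))
    have hzc := Subgroup.mem_center_iff.1 hz
    have hz1' : (z : G) ≠ 1 := fun e => hz1 (Subtype.ext (Subtype.ext e))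
    have hzD : (z : G) ∈ D := (h.isCC d d.2 hd1').le
      (mem_cen.2 (congrArg Subtype.val (hzc ⟨d, hdQ⟩)))
    exact fun y hy => (h.isCC _ hzD hz1').le
      (mem_cen.2 (congrArg Subtype.val (hzc ⟨y, hy⟩)).symm)
  have hsup := Sylow.normalizer_sup_eq_top Q
  have hN : Subgroup.normalizer
      (((Q : Subgroup (solRad G)).map (solRad G).subtype : Subgroup G) : Set G) ≤
      Subgroup.normalizer (D : Set G) := fun k hk =>
    h.conj_D d.2 hd1' (hQD ((Subgroup.mem_normalizer_iff.1 hk d).1 hdQ))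
  haveI := solRad_isSolvable (G := G)
  haveI : Group.IsSolvable (G ⧸ solRad G) := Group.isSolvable_of_surjective
    (f := (QuotientGroup.mk' (solRad G)).comp (Subgroup.normalizer (D : Set G)).subtype) fun q => by
      induction q using QuotientGroup.induction_on with | _ k => ?_
      obtain ⟨m, hm, l, hl, rfl⟩ := Subgroup.mem_sup_of_normal_right.1 (hsup ▸ Subgroup.mem_top k)
      refine ⟨⟨m, hN hm⟩, ?_⟩
      rw [QuotientGroup.mk_mul, (QuotientGroup.eq_one_iff l).2 hl, mul_one]
      rfl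
  exact h.sizes.notSolv (Group.isSolvable_of_ker_le_range (solRad G).subtype
    (QuotientGroup.mk' (solRad G)) (by rw [QuotientGroup.ker_mk', Subgroup.range_subtype]))

theorem solRad_coprime (h : CCData G a b c D) : (Nat.card (solRad G)).Coprime a :=
  (h.coprime_or_le (solRad G)).resolve_right h.radical_coprime

theorem solRad_le_cen (h : CCData G a b c D) {y : G} (hy : idx y = a) : solRad G ≤ cen y :=
  h.le_cen_of_coprime h.solRad_coprime hy

theorem eq_one_of_mem_D_solRad (h : CCData G a b c D) {x : G} (hx : x ∈ D) (hR : x ∈ solRad G) :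
    x = 1 :=
  orderOf_eq_one_iff.1 (Nat.eq_one_of_dvd_coprimes h.solRad_coprime
    (Subgroup.orderOf_dvd_natCard _ hR) (h.card ▸ Subgroup.orderOf_dvd_natCard D hx))

end CCData

end Cfsg.Agent.Lib.RankThree72
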