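import Cfsg.Agent.Lib.RankThree72.Basic
import Cfsg.Agent.Lib.ClassSizesFour21.Nilpotent

/-!
# Three class sizes `a, b, c` with `a ∣ b`: first consequences, and the case `c ∣ b`
-/

set_option autoImplicit false
set_option linter.style.haveILetI false

namespace Cfsg.Agent.Lib.RankThree72

open Cfsg.Agent.Lib.ClassSizes.Basic Cfsg.Agent.Lib.ClassSizes.CopTools

variable {G : Type*} [Group G] [Finite G] {a b c : ℕ}

/-- The class sizes of the nontrivial elements are `a`, `b`, `c` with `a` a proper divisor of `b` and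
prime to `c`. -/
structure Sizes (G : Type*) [Group G] (a b c : ℕ) : Prop where
  center : Subgroup.center G = ⊥
  notSolv : ¬ Group.IsSolvable G
  mem : ∀ x : G, x ≠ 1 → idx x = a ∨ idx x = b ∨ idx x = c
  dvd : a ∣ b
  lt : a < b
  cop : a.Coprime c
  one_lt_a : 1 < a
  one_lt_c : 1 < c
  b_ne_c : b ≠ c
  exists_a : ∃ x : G, idx x = a
  exists_b : ∃ x : G, idx x = b
  exists_c : ∃ x : G, idx x = c

namespace Sizes

omit [Finite G] in
theorem a_ne_c (S : Sizes G a b c) : a ≠ c := fun e => by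
  have := S.cop
  rw [e, Nat.coprime_self] at this
  exact absurd this S.one_lt_c.ne'

omit [Finite G] in
theorem not_b_dvd_a (S : Sizes G a b c) : ¬ b ∣ a := fun h =>
  absurd (Nat.le_of_dvd (Nat.lt_of_lt_of_le one_pos S.one_lt_a.le) h) (not_le.2 S.lt)

omit [Finite G] in
theorem not_c_dvd_a (S : Sizes G a b c) : ¬ c ∣ a := fun h =>
  absurd (Nat.eq_one_of_dvd_coprimes S.cop h dvd_rfl) S.one_lt_c.ne'

omit [Finite G] in
theorem not_a_dvd_c (S : Sizes G a b c) : ¬ a ∣ c := fun h =>
  absurd (Nat.eq_one_of_dvd_coprimes S.cop dvd_rfl h) S.one_lt_a.ne'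

omit [Finite G] in
theorem not_b_dvd_c (S : Sizes G a b c) : ¬ b ∣ c := fun h => S.not_a_dvd_c (S.dvd.trans h)

theorem ne_one_of_idx (S : Sizes G a b c) {x : G} (h : idx x = a ∨ idx x = b ∨ idx x = c) : x ≠ 1 := by
  rintro rfl
  have h1 : idx (1 : G) = 1 := ClassSizesFour21.idx_one_iff.2 (one_mem _)
  have := S.one_lt_a
  have := S.one_lt_c
  have := S.lt
  omega

omit [Finite G] in
theorem a_of_dvd (S : Sizes G a b c) {x : G} (hx : x ≠ 1) (h : idx x ∣ a) : idx x = a := by
  rcases S.mem x hx with e | e | e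
  · exact e
  · exact absurd (e ▸ h) S.not_b_dvd_a
  · exact absurd (e ▸ h) S.not_c_dvd_a

omit [Finite G] in
theorem c_of_dvd (S : Sizes G a b c) {x : G} (hx : x ≠ 1) (h : idx x ∣ c) : idx x = c := by
  rcases S.mem x hx with e | e | e
  · exact absurd (e ▸ h) S.not_a_dvd_c
  · exact absurd (e ▸ h) S.not_b_dvd_c
  · exact e

/-- `a`-elements have `a`-type primary components. -/
theorem exists_primary_a (S : Sizes G a b c) :
    ∃ (p : ℕ) (u : G), p.Prime ∧ IsPEl p u ∧ u ≠ 1 ∧ idx u = a := by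
  obtain ⟨x, hx⟩ := S.exists_a
  obtain ⟨p, u, hp, hup, hu1, -, hle⟩ := exists_primary (S.ne_one_of_idx (Or.inl hx))
  exact ⟨p, u, hp, hup, hu1, S.a_of_dvd hu1 (hx ▸ Subgroup.index_dvd_of_le hle)⟩

/-- `c`-elements have `c`-type primary components. -/
theorem exists_primary_c (S : Sizes G a b c) :
    ∃ (p : ℕ) (u : G), p.Prime ∧ IsPEl p u ∧ u ≠ 1 ∧ idx u = c := by
  obtain ⟨x, hx⟩ := S.exists_c
  obtain ⟨p, u, hp, hup, hu1, -, hle⟩ := exists_primary (S.ne_one_of_idx (Or.inr (Or.inr hx)))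
  exact ⟨p, u, hp, hup, hu1, S.c_of_dvd hu1 (hx ▸ Subgroup.index_dvd_of_le hle)⟩

/-- A `b`-element absorbs what it commutes with coprimely. -/
theorem cen_le_b (S : Sizes G a b c) {x v : G} (hx : idx x = b) (hv : v ∈ cen x)
    (hcop : (orderOf x).Coprime (orderOf v)) : cen x ≤ cen v := by
  have e := cen_mul hv hcop
  have hd : b ∣ idx (x * v) := hx ▸ Subgroup.index_dvd_of_le (e.le.trans inf_le_left)
  have hne : x * v ≠ 1 := by
    intro h
    rw [h, ClassSizesFour21.idx_one_iff.2 (one_mem _)] at hd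
    have := S.one_lt_a
    have := S.lt
    have := Nat.dvd_one.1 hd
    omega
  have hi : idx (x * v) = b := by
    rcases S.mem _ hne with h | h | h
    · exact absurd (h ▸ hd) S.not_b_dvd_a
    · exact h
    · exact absurd (h ▸ hd) S.not_b_dvd_c
  rw [← cen_eq_of_idx (e.le.trans inf_le_left) (hi.trans hx.symm), e]
  exact inf_le_right

theorem commute_b (S : Sizes G a b c) {p q : ℕ} (hp : p.Prime) (hq : q.Prime) (hpq : p ≠ q)
    {x u v : G} {s : ℕ} (hs : s.Prime) (hxs : IsPEl s x) (hx : idx x = b) (hu : u ∈ cen x)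
    (hv : v ∈ cen x) (hup : IsPEl p u) (hvq : IsPEl q v) : u * v = v * u := by
  by_cases hps : p = s
  · exact (mem_cen.1 (S.cen_le_b hx hv
      (hxs.coprime_orderOf hs hq (fun e => hpq (hps.trans e)) hvq) hu)).symm
  · exact mem_cen.1 (S.cen_le_b hx hu (hxs.coprime_orderOf hs hp (Ne.symm hps) hup) hv)

/-- Case `c ∣ b`: no `a`- and `c`-elements of coprime order commute. -/
theorem four (S : Sizes G a b c) (hcb : c ∣ b) {x y : G} (hx : idx x = a) (hy : idx y = c)
    (hxy : y ∈ cen x) (hcop : (orderOf x).Coprime (orderOf y)) : False := by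
  have e := cen_mul hxy hcop
  have ha : a ∣ idx (x * y) := hx ▸ Subgroup.index_dvd_of_le (e.le.trans inf_le_left)
  have hc : c ∣ idx (x * y) := hy ▸ Subgroup.index_dvd_of_le (e.le.trans inf_le_right)
  have hle : idx (x * y) ≤ a * c := by
    have : idx (x * y) = (cen x ⊓ cen y).index := by rw [idx, e]
    rw [this, ← hx, ← hy]
    exact Subgroup.index_inf_le
  have hne : x * y ≠ 1 := by
    intro h
    rw [h, ClassSizesFour21.idx_one_iff.2 (one_mem _)] at ha
    exact absurd (Nat.dvd_one.1 ha) S.one_lt_a.ne'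
  have hb : idx (x * y) = b := by
    rcases S.mem _ hne with h | h | h
    · exact absurd (h ▸ hc) S.not_c_dvd_a
    · exact h
    · exact absurd (h ▸ ha) S.not_a_dvd_c
  have hbac : b = a * c := le_antisymm (hb ▸ hle)
    (Nat.le_of_dvd (by have := S.lt; omega) (S.cop.mul_dvd_of_dvd_of_dvd S.dvd hcb))
  have F : ClassSizesFour21.Four G a c := by
    refine ⟨S.one_lt_a, S.one_lt_c, S.cop, fun g => ?_, S.exists_a, S.exists_c, hbac ▸ S.exists_b⟩
    rcases eq_or_ne g 1 with rfl | hg
    · exact Or.inl (ClassSizesFour21.idx_one_iff.2 (one_mem _))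
    rcases S.mem g hg with h | h | h
    · exact Or.inr (Or.inl h)
    · exact Or.inr (Or.inr (Or.inr (h.trans hbac)))
    · exact Or.inr (Or.inr (Or.inl h))
  haveI := F.conclusion.1
  exact S.notSolv inferInstance

theorem symm (S : Sizes G a b c) (hcb : c ∣ b) : Sizes G c b a where
  center := S.center
  notSolv := S.notSolv
  mem x hx := by
    rcases S.mem x hx with h | h | h
    · exact Or.inr (Or.inr h)
    · exact Or.inr (Or.inl h)
    · exact Or.inl h
  dvd := hcb
  lt := lt_of_le_of_ne (Nat.le_of_dvd (by have := S.lt; omega) hcb) S.b_ne_c.symm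
  cop := S.cop.symm
  one_lt_a := S.one_lt_c
  one_lt_c := S.one_lt_a
  b_ne_c := S.lt.ne'
  exists_a := S.exists_c
  exists_b := S.exists_b
  exists_c := S.exists_a

/-- An `a`-element commuting with a `c`-element of another prime. -/
theorem double_side (S : Sizes G a b c) (hcb : c ∣ b) {l r p : ℕ} [Fact l.Prime] [hr : Fact r.Prime]
    (hp : p.Prime) (hlr : l ≠ r) (hrc : r ∣ c) {e w : G} (hep : IsPEl p e) (he : idx e = a)
    (hwl : IsPEl l w) (hw : idx w = c) (hwe : w ∈ cen e) : False := by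
  by_cases hpl : p = l
  swap
  · exact S.four hcb he hw hwe (hep.coprime_orderOf hp Fact.out hpl hwl)
  subst hpl
  have hra : ¬ r ∣ a := fun h => hr.out.ne_one (Nat.eq_one_of_dvd_coprimes S.cop h hrc)
  obtain ⟨R, hR⟩ := ClassSizesFour21.exists_sylow_cen (r := r) (x := e) (he ▸ hra)
  have hrG : r ∣ Nat.card G := hrc.trans (by
    obtain ⟨g, hg⟩ := S.exists_c
    exact hg ▸ Dvd.intro_left _ (card_cen_mul_idx g))
  obtain ⟨u, hu, hu1, hur, hRu⟩ := exists_central R hrG
  have hua : idx u = a := by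
    have hru := not_dvd_idx_of_le R hRu
    rcases S.mem u hu1 with h | h | h
    · exact h
    · exact absurd (hrc.trans hcb) (h ▸ hru)
    · exact absurd hrc (h ▸ hru)
  have heu : u ∈ cen e := hR hu
  have hcop := hep.coprime_orderOf hp hr.out hlr hur
  have ee := cen_mul heu hcop
  have hri : ¬ r ∣ idx (e * u) :=
    not_dvd_idx_of_le R (fun g hg => ee.ge ⟨hR hg, hRu hg⟩)
  have hne : e * u ≠ 1 := by
    intro h
    have := Subgroup.index_dvd_of_le (ee.le.trans inf_le_left)
    change idx e ∣ idx (e * u) at this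
    rw [h, ClassSizesFour21.idx_one_iff.2 (one_mem _), he] at this
    exact absurd (Nat.dvd_one.1 this) S.one_lt_a.ne'
  have hi : idx (e * u) = a := by
    rcases S.mem _ hne with h | h | h
    · exact h
    · exact absurd (hrc.trans hcb) (h ▸ hri)
    · exact absurd hrc (h ▸ hri)
  have h1 := cen_eq_of_idx (ee.le.trans inf_le_left) (hi.trans he.symm)
  have h2 := cen_eq_of_idx (ee.le.trans inf_le_right) (hi.trans hua.symm)
  exact S.four hcb hua hw (h2 ▸ h1.symm ▸ hwe) (hur.coprime_orderOf hr.out hp hlr.symm hwl)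

/-- Case `c ∣ b`. -/
theorem double_false (S : Sizes G a b c) (hcb : c ∣ b) : False := by
  obtain ⟨l, hl, hla⟩ := Nat.exists_prime_and_dvd S.one_lt_a.ne'
  obtain ⟨r, hr, hrc⟩ := Nat.exists_prime_and_dvd S.one_lt_c.ne'
  haveI := Fact.mk hl
  haveI := Fact.mk hr
  have hlr : l ≠ r := fun e => hl.ne_one (Nat.eq_one_of_dvd_coprimes S.cop hla (e ▸ hrc))
  obtain ⟨xa, hxa⟩ := S.exists_a
  obtain ⟨xc, hxc⟩ := S.exists_c
  obtain ⟨L⟩ := (inferInstance : Nonempty (Sylow l G))
  obtain ⟨R⟩ := (inferInstance : Nonempty (Sylow r G))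
  obtain ⟨w, hwL, hw1, hwl, hLw⟩ :=
    exists_central L (hla.trans (hxa ▸ Dvd.intro_left _ (card_cen_mul_idx xa)))
  obtain ⟨u, huR, hu1, hur, hRu⟩ :=
    exists_central R (hrc.trans (hxc ▸ Dvd.intro_left _ (card_cen_mul_idx xc)))
  have hw : idx w = c := by
    have hd := not_dvd_idx_of_le L hLw
    rcases S.mem w hw1 with h | h | h
    · exact absurd hla (h ▸ hd)
    · exact absurd (hla.trans S.dvd) (h ▸ hd)
    · exact h
  have hu : idx u = a := by
    have hd := not_dvd_idx_of_le R hRu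
    rcases S.mem u hu1 with h | h | h
    · exact h
    · exact absurd (hrc.trans hcb) (h ▸ hd)
    · exact absurd hrc (h ▸ hd)
  obtain ⟨x, ⟨hxu, hxw⟩, hx1⟩ : ∃ x ∈ cen u ⊓ cen w, x ≠ 1 := by
    by_contra hcon
    push Not at hcon
    have hbot : cen u ⊓ cen w = ⊥ := (Subgroup.eq_bot_iff_forall _).2 hcon
    have h1 : (cen u ⊓ cen w).index ≤ a * c := by
      rw [← hu, ← hw]; exact Subgroup.index_inf_le
    rw [hbot, Subgroup.index_bot] at h1
    obtain ⟨xb, hxb⟩ := S.exists_b
    have h2 := idx_lt_card (S.ne_one_of_idx (Or.inr (Or.inl hxb)))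
    have h3 := Nat.le_of_dvd (by have := S.lt; omega) (S.cop.mul_dvd_of_dvd_of_dvd S.dvd hcb)
    omega
  obtain ⟨p, e, hp, hep, he1, -, hle⟩ := exists_primary hx1
  have hue : u ∈ cen e := hle (mem_cen_comm.1 hxu)
  have hwe : w ∈ cen e := hle (mem_cen_comm.1 hxw)
  rcases S.mem e he1 with he | he | he
  · exact S.double_side hcb hp hlr hrc hep he hwl hw hwe
  · exact S.four hcb hu hw (mem_cen.2 (S.commute_b hr hl hlr.symm hp hep he hue hwe hur hwl))
      (hur.coprime_orderOf hr hl hlr.symm hwl)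
  · exact (S.symm hcb).double_side S.dvd hp hlr.symm hla hep he hur hu hue

end Sizes

end Cfsg.Agent.Lib.RankThree72
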