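import Cfsg.Agent.Lib.RankThree72.Inner
import Cfsg.Agent.Lib.ZStar.UniqueCase

/-!
# The last contradiction
-/

set_option autoImplicit false
set_option linter.style.haveILetI false

namespace Cfsg.Agent.Lib.RankThree72

open Cfsg.Agent.Lib.ClassSizes.Basic Cfsg.Agent.Lib.ClassSizes.CopTools
open Cfsg.Agent.Lib.PrimePowerClass.Radical

universe u

variable {G : Type u} [Group G] [Finite G] {a b c : ℕ} {D : Subgroup G}

namespace CCData

/-- An odd prime part of the radical on which the outer elements act. -/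
theorem exists_odd_part (h : CCData G a b c D) :
    ∃ q : ℕ, q.Prime ∧ q ≠ 2 ∧ ¬ q ∣ a ∧ (∃ u : G, IsPEl q u ∧ u ∉ solRad G) ∧
      ∃ U : Subgroup G, U.Normal ∧ U ≠ ⊥ ∧ U ≤ solRad G ∧ (∀ x ∈ U, IsPEl q x) ∧
        ∀ x ∈ U, ∀ r ∈ solRad G, r * x = x * r := by
  haveI : Fact (Nat.Prime 2) := ⟨Nat.prime_two⟩
  obtain ⟨q, u, hq, hq2, hqa, hu, huR⟩ := h.exists_outer_odd
  haveI := Fact.mk hq
  obtain ⟨t, ht, htR⟩ : ∃ t : G, IsPEl 2 t ∧ t ∉ solRad G := by
    by_contra hcon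
    push Not at hcon
    exact h.solvable_of_two hcon
  have hqb : q ∣ b := by
    by_contra hqb
    have hb := h.outer_b Nat.prime_two h.two_not_dvd ht htR
    obtain ⟨P, hP⟩ := ClassSizesFour21.exists_sylow_cen (r := q) (x := t) (hb.symm ▸ hqb)
    obtain ⟨g, hg⟩ := ClassSizesFour21.exists_conj_mem hu P
    refine h.no_mix hq hq2 hqa ht htR (ClassSizesFour21.conj_isPEl hu g) (fun hR => huR ?_)
      (mem_cen.1 (hP hg))
    simpa [mul_assoc] using (solRad_normal (G := G)).conj_mem _ hR g⁻¹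
  have hqG : q ∣ Nat.card G := (prime_dvd_orderOf hq hu fun e => huR (e ▸ one_mem _)).trans
    (orderOf_dvd_natCard u)
  obtain ⟨P⟩ := (inferInstance : Nonempty (Sylow q G))
  obtain ⟨z, -, hz1, hzq, hPz⟩ := exists_central P hqG
  have ha : idx z = a := (h.prime_cases hq hqa hzq hz1).resolve_right
    fun e => not_dvd_idx_of_le P hPz (e ▸ hqb)
  refine ⟨q, hq, hq2, hqa, ⟨u, hu, huR⟩, Cfsg.pCore q G ⊓ Subgroup.centralizer (solRad G : Set G),
    inferInstance, fun e => hz1 ?_, inf_le_left.trans (h.pCore_le q),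
    fun x hx => isPEl_of_mem (Cores.pCore_isPGroup q) hx.1,
    fun x hx r hr => Subgroup.mem_centralizer_iff.1 hx.2 r hr⟩
  exact Subgroup.mem_bot.1 (e ▸ (⟨h.mem_pCore (h.primary_mem_solRad hq hzq ha) hzq,
    Subgroup.mem_centralizer_iff.2 fun r hr => (mem_cen.1 (h.solRad_le_cen ha hr)).symm⟩ :
      z ∈ Cfsg.pCore q G ⊓ Subgroup.centralizer (solRad G : Set G)))

theorem two_elt_a (h : CCData G a b c D) {e : G} (he : e ∈ Cfsg.pCore 2 G) (he1 : e ≠ 1) :
    idx e = a := by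
  haveI : Fact (Nat.Prime 2) := ⟨Nat.prime_two⟩
  have he2 := isPEl_of_mem (Cores.pCore_isPGroup 2) he
  refine (h.prime_cases Nat.prime_two h.two_not_dvd he2 he1).resolve_right fun heb => ?_
  obtain ⟨q, hq, hq2, hqa, -, U, hUn, hU1, hUR, hUq, -⟩ := h.exists_odd_part
  haveI := Fact.mk hq
  obtain ⟨t, ht, htR⟩ : ∃ t : G, IsPEl 2 t ∧ t ∉ solRad G := by
    by_contra hcon
    push Not at hcon
    exact h.solvable_of_two hcon
  have htb := h.outer_b Nat.prime_two h.two_not_dvd ht htR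
  have hQle : Cfsg.pCore q G ≤ cen e := fun x hx =>
    mem_cen.2 (pCore_commute (Ne.symm hq2) he hx).eq
  obtain ⟨P⟩ := (inferInstance : Nonempty (Sylow q (cen t)))
  have hle : (P : Subgroup (cen t)).map (cen t).subtype ≤ Cfsg.pCore q G ⊓ cen t := by
    rintro _ ⟨x, hx, rfl⟩
    refine ⟨?_, x.2⟩
    have hxq : IsPEl q ((cen t).subtype x) := by
      obtain ⟨k, hk⟩ := isPEl_of_mem P.2 hx
      exact ⟨k, by rw [← map_pow, hk, map_one]⟩
    refine h.mem_pCore ?_ hxq
    by_contra hxR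
    exact h.no_mix hq hq2 hqa ht htR hxq hxR (mem_cen.1 x.2)
  have hlt : Cfsg.pCore q G ⊓ cen t < Cfsg.pCore q G := by
    refine lt_of_le_of_ne inf_le_left fun heq => htR (h.cent_le (h.pCore_le q) ?_ ?_)
    · intro hb
      obtain ⟨x, hx, hx1⟩ : ∃ x ∈ U, x ≠ 1 := by
        by_contra hcon
        push Not at hcon
        exact hU1 ((Subgroup.eq_bot_iff_forall _).2 hcon)
      exact hx1 (Subgroup.mem_bot.1 (hb ▸ h.mem_pCore (hUR hx) (hUq x hx)))
    · exact Subgroup.mem_centralizer_iff.2 fun x hx =>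
        (mem_cen.1 (inf_eq_left.1 heq hx)).symm
  obtain ⟨i, hi⟩ := (Cores.pCore_isPGroup (G := G) q).exists_card_eq
  have h1 : q ^ i ∣ Nat.card (cen t) := by
    rw [← hi, h.card_cen_b htb heb]
    exact Subgroup.card_dvd_of_le hQle
  have h2 : q ^ i ≤ Nat.card P := by
    rw [P.card_eq_multiplicity]
    exact Nat.pow_le_pow_right hq.pos ((hq.pow_dvd_iff_le_factorization Nat.card_pos.ne').1 h1)
  have h3 := Subgroup.card_le_of_le hle
  rw [Subgroup.card_map_of_injective (cen t).subtype_injective] at h3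
  have h4 : Nat.card (Cfsg.pCore q G ⊓ cen t : Subgroup G) < Nat.card (Cfsg.pCore q G) := by
    refine lt_of_le_of_ne (Subgroup.card_le_of_le hlt.le) fun heq => hlt.ne ?_
    exact Subgroup.eq_of_le_of_card_ge hlt.le heq.ge
  omega

theorem pCore_two_central (h : CCData G a b c D) {x r : G} (hx : x ∈ Cfsg.pCore 2 G)
    (hr : r ∈ solRad G) : r * x = x * r := by
  rcases eq_or_ne x 1 with rfl | hx1
  · simp
  · exact (mem_cen.1 (h.solRad_le_cen (h.two_elt_a hx hx1) hr)).symm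

theorem commute_core (h : CCData G a b c D) {x y : G} (hx : x ∈ Cfsg.pCore 2 G)
    (hy : y ∈ Cfsg.pCore 2 G) : x * y = y * x := by
  haveI : Fact (Nat.Prime 2) := ⟨Nat.prime_two⟩
  exact h.pCore_two_central hy (h.pCore_le 2 hx)

/-- Elements inverted by an outer `2`-element are involutions. -/
theorem sq_eq_one_of_inverted (h : CCData G a b c D) {t g : G} (htR : t ∉ solRad G)
    (hg : g ∈ Cfsg.pCore 2 G) (hinv : t * g * t⁻¹ = g⁻¹) : g * g = 1 := by
  haveI : Fact (Nat.Prime 2) := ⟨Nat.prime_two⟩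
  by_contra hne
  obtain ⟨k, hk⟩ := pel_orderOf Nat.prime_two (isPEl_of_mem (Cores.pCore_isPGroup 2) hg)
  obtain ⟨i, rfl⟩ : ∃ i, k = i + 2 := by
    refine ⟨k - 2, ?_⟩
    by_contra hk2
    have hd : 2 ^ k ∣ 2 := by
      rcases (show k = 0 ∨ k = 1 by omega) with rfl | rfl <;> norm_num
    exact hne (by rw [← pow_two]; exact orderOf_dvd_iff_pow_eq_one.1 (hk ▸ hd))
  obtain ⟨w, hw⟩ : ∃ w, w = g ^ 2 ^ i := ⟨_, rfl⟩
  have hwA : w ∈ Cfsg.pCore 2 G := hw ▸ pow_mem hg _
  have hw4 : orderOf w = 4 := by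
    rw [hw, orderOf_pow_of_dvd (by positivity) (hk ▸ pow_dvd_pow 2 (by omega)), hk,
      Nat.pow_div (by omega) two_pos, show i + 2 - i = 2 by omega]
    norm_num
  have hwinv : t * w * t⁻¹ = w⁻¹ := by rw [hw, ← conj_pow, hinv, inv_pow]
  have hw1 : w ≠ 1 := fun e => by rw [e, orderOf_one] at hw4; omega
  have hww1 : w * w ≠ 1 := fun e => by
    have := orderOf_dvd_of_pow_eq_one (show w ^ 2 = 1 by rw [pow_two, e])
    rw [hw4] at this
    omega
  have hle : cen w ≤ cen (w * w) := by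
    rw [← pow_two]; exact cen_le_of_mem_zpowers (pow_mem (Subgroup.mem_zpowers w) 2)
  have heq := cen_eq_of_idx hle ((h.two_elt_a hwA hw1).trans
    (h.two_elt_a (mul_mem hwA hwA) hww1).symm)
  have htw : t ∈ cen (w * w) := by
    refine Subgroup.mem_centralizer_singleton_iff.2 (mul_inv_eq_iff_eq_mul.1 ?_)
    have h4 : w ^ 4 = 1 := by rw [← hw4]; exact pow_orderOf_eq_one w
    calc t * (w * w) * t⁻¹ = (t * w * t⁻¹) * (t * w * t⁻¹) := by group
      _ = (w * w) * ((w ^ 4)⁻¹) := by rw [hwinv]; group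
      _ = w * w := by rw [h4, inv_one, mul_one]
  rw [← heq] at htw
  have hwfix : t * w * t⁻¹ = w :=
    mul_inv_eq_iff_eq_mul.2 (Subgroup.mem_centralizer_singleton_iff.1 htw)
  exact hww1 (mul_eq_one_iff_eq_inv.2 (hwfix.symm.trans hwinv))

theorem psi_spec (h : CCData G a b c D) {t g : G} (htR : t ∉ solRad G)
    (ht2 : t * t ∈ solRad G) (hg : g ∈ Cfsg.pCore 2 G) :
    g⁻¹ * (t * g * t⁻¹) ∈ Cfsg.pCore 2 G ⊓ cen t ∧
      t * (g⁻¹ * (t * g * t⁻¹)) * t⁻¹ = (g⁻¹ * (t * g * t⁻¹))⁻¹ := by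
  have hA : (Cfsg.pCore 2 G).Normal := inferInstance
  have hj : g⁻¹ * (t * g * t⁻¹) ∈ Cfsg.pCore 2 G := mul_mem (inv_mem hg) (hA.conj_mem g hg t)
  have hinv : t * (g⁻¹ * (t * g * t⁻¹)) * t⁻¹ = (g⁻¹ * (t * g * t⁻¹))⁻¹ := by
    calc t * (g⁻¹ * (t * g * t⁻¹)) * t⁻¹
        = (t * g * t⁻¹)⁻¹ * ((t * t) * g * (t * t)⁻¹) := by group
      _ = (t * g * t⁻¹)⁻¹ * g := by rw [h.pCore_two_central hg ht2, mul_inv_cancel_right]
      _ = (g⁻¹ * (t * g * t⁻¹))⁻¹ := by group
  refine ⟨⟨hj, mem_cen.2 ?_⟩, hinv⟩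
  have hsq := h.sq_eq_one_of_inverted htR hj hinv
  have h1 : t * (g⁻¹ * (t * g * t⁻¹)) * t⁻¹ = g⁻¹ * (t * g * t⁻¹) :=
    hinv.trans (inv_eq_of_mul_eq_one_right hsq)
  exact mul_inv_eq_iff_eq_mul.1 h1

/-- The map `g ↦ [g,t]` on the core, into the fixed points. -/
noncomputable def psi (h : CCData G a b c D) {t : G} (htR : t ∉ solRad G)
    (ht2 : t * t ∈ solRad G) : Cfsg.pCore 2 G →* (Cfsg.pCore 2 G ⊓ cen t : Subgroup G) :=
  MonoidHom.mk' (fun g => ⟨_, (h.psi_spec htR ht2 g.2).1⟩) fun x y => Subtype.ext (by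
    have hA : (Cfsg.pCore 2 G).Normal := inferInstance
    have h1 : t * x * t⁻¹ ∈ Cfsg.pCore 2 G := hA.conj_mem _ x.2 t
    have h2 : (x : G)⁻¹ * (t * x * t⁻¹) ∈ Cfsg.pCore 2 G := mul_mem (inv_mem x.2) h1
    show ((x : G) * y)⁻¹ * (t * ((x : G) * y) * t⁻¹) =
      (x : G)⁻¹ * (t * x * t⁻¹) * ((y : G)⁻¹ * (t * y * t⁻¹))
    calc ((x : G) * y)⁻¹ * (t * ((x : G) * y) * t⁻¹)
        = (y : G)⁻¹ * ((x : G)⁻¹ * (t * x * t⁻¹)) * (t * y * t⁻¹) := by group
      _ = (x : G)⁻¹ * (t * x * t⁻¹) * (y : G)⁻¹ * (t * y * t⁻¹) := by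
        rw [h.commute_core (inv_mem y.2) h2]
      _ = _ := by group)

theorem psi_ker (h : CCData G a b c D) {t : G} (htR : t ∉ solRad G) (ht2 : t * t ∈ solRad G) :
    (h.psi htR ht2).ker = (cen t).subgroupOf (Cfsg.pCore 2 G) := by
  ext g
  rw [MonoidHom.mem_ker, Subgroup.mem_subgroupOf, Subtype.ext_iff, mem_cen]
  show (g : G)⁻¹ * (t * g * t⁻¹) = 1 ↔ _
  rw [inv_mul_eq_one, eq_comm, mul_inv_eq_iff_eq_mul]

theorem card_core_eq (h : CCData G a b c D) {t : G} (htR : t ∉ solRad G)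
    (ht2 : t * t ∈ solRad G) :
    Nat.card (Cfsg.pCore 2 G ⊓ cen t : Subgroup G) * Nat.card (h.psi htR ht2).range =
      Nat.card (Cfsg.pCore 2 G) := by
  rw [← Subgroup.index_ker, h.psi_ker htR ht2,
    show Nat.card (Cfsg.pCore 2 G ⊓ cen t : Subgroup G) =
      Nat.card ((cen t).subgroupOf (Cfsg.pCore 2 G)) by
        rw [← Subgroup.inf_subgroupOf_left]
        exact (Nat.card_congr (Subgroup.subgroupOfEquivOfLe inf_le_left).toEquiv).symm]
  exact Subgroup.card_mul_index _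

theorem card_core_le (h : CCData G a b c D) {t : G} (htR : t ∉ solRad G)
    (ht2 : t * t ∈ solRad G) : Nat.card (Cfsg.pCore 2 G) ≤
      Nat.card (Cfsg.pCore 2 G ⊓ cen t : Subgroup G) *
        Nat.card (Cfsg.pCore 2 G ⊓ cen t : Subgroup G) := by
  rw [← h.card_core_eq htR ht2]
  exact Nat.mul_le_mul_left _ (Subgroup.card_subgroup_dvd_card _ |> Nat.le_of_dvd Nat.card_pos)

theorem surj_of_card_eq (h : CCData G a b c D) {t : G} (htR : t ∉ solRad G)
    (ht2 : t * t ∈ solRad G)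
    (heq : Nat.card (Cfsg.pCore 2 G ⊓ cen t : Subgroup G) *
      Nat.card (Cfsg.pCore 2 G ⊓ cen t : Subgroup G) ≤ Nat.card (Cfsg.pCore 2 G))
    {j : G} (hj : j ∈ Cfsg.pCore 2 G) (hjt : Commute t j) :
    ∃ g ∈ Cfsg.pCore 2 G, g⁻¹ * (t * g * t⁻¹) = j := by
  rw [← h.card_core_eq htR ht2] at heq
  have htop := Subgroup.eq_top_of_le_card _ (Nat.le_of_mul_le_mul_left heq Nat.card_pos)
  obtain ⟨g, hg⟩ := MonoidHom.range_eq_top.1 htop ⟨j, hj, mem_cen.2 hjt.eq⟩
  exact ⟨g, g.2, congrArg Subtype.val hg⟩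

/-- An element normalising `D` but not in it has few fixed points in the core. -/
theorem card_sq_le (h : CCData G a b c D) {w : G} (hwN : w ∈ Subgroup.normalizer (D : Set G))
    (hwD : w ∉ D) : Nat.card (Cfsg.pCore 2 G ⊓ cen w : Subgroup G) *
      Nat.card (Cfsg.pCore 2 G ⊓ cen w : Subgroup G) ≤ Nat.card (Cfsg.pCore 2 G) := by
  haveI : Fact (Nat.Prime 2) := ⟨Nat.prime_two⟩
  obtain ⟨d, hd, hd1⟩ := h.exists_ne_one
  have hA : (Cfsg.pCore 2 G).Normal := inferInstance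
  have hd' : d * w * d⁻¹ * w⁻¹ ∈ D := by
    rw [mul_assoc, mul_assoc, ← mul_assoc w]
    exact D.mul_mem hd ((Subgroup.mem_normalizer_iff.1 hwN _).1 (D.inv_mem hd))
  have hd'1 : d * w * d⁻¹ * w⁻¹ ≠ 1 := fun e => by
    rw [mul_inv_eq_one, mul_inv_eq_iff_eq_mul] at e
    exact hwD (h.fix_D hd hd1 (show Commute w d from e.symm))
  set C := (Cfsg.pCore 2 G ⊓ cen w : Subgroup G)
  refine (le_of_eq (Nat.card_prod _ _).symm).trans (Nat.card_le_card_of_injective
    (fun p : C × C => (⟨(p.1 : G) * (d * p.2 * d⁻¹), mul_mem p.1.2.1 (hA.conj_mem _ p.2.2.1 d)⟩ :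
      Cfsg.pCore 2 G)) ?_)
  rintro ⟨x, y⟩ ⟨x', y'⟩ hxy
  have h1 : (x : G) * (d * y * d⁻¹) = (x' : G) * (d * y' * d⁻¹) := congrArg Subtype.val hxy
  obtain ⟨k, hk⟩ : ∃ k, k = (x' : G)⁻¹ * x := ⟨_, rfl⟩
  have hk2 : k = d * ((y' : G) * (y : G)⁻¹) * d⁻¹ := by
    have : (x : G) = (x' : G) * (d * y' * d⁻¹) * (d * y * d⁻¹)⁻¹ := eq_mul_inv_of_mul_eq h1
    rw [hk, this]; group
  have hkC : k ∈ C := hk ▸ C.mul_mem (C.inv_mem x'.2) x.2
  have hc1 : Commute k w := (mem_cen.1 hkC.2).symm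
  have hc2 : Commute k (d * w * d⁻¹) := by
    have hy : Commute ((y' : G) * (y : G)⁻¹) w :=
      (mem_cen.1 (C.mul_mem y'.2 (C.inv_mem y.2)).2).symm
    rw [hk2]
    rw [commute_iff_eq]
    calc _ = d * (((y' : G) * (y : G)⁻¹) * w) * d⁻¹ := by group
      _ = d * (w * ((y' : G) * (y : G)⁻¹)) * d⁻¹ := by rw [hy.eq]
      _ = _ := by group
  have hk1 : k = 1 := h.eq_one_of_mem_D_solRad
    (h.fix_D hd' hd'1 (hc2.mul_right hc1.inv_right)) (h.pCore_le 2 hkC.1)
  have hx : x' = x := Subtype.ext (inv_mul_eq_one.1 (hk ▸ hk1))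
  subst hx
  have hy : y = y' := Subtype.ext (mul_left_cancel (mul_right_cancel (mul_left_cancel h1)))
  rw [hy]

/-- An involution outside the radical inverting `D` with a large set of commutators. -/
theorem exists_good_invol (h : CCData G a b c D) :
    ∃ t : G, orderOf t = 2 ∧ t ∉ solRad G ∧ t ∈ Subgroup.normalizer (D : Set G) ∧
      Nat.card (Cfsg.pCore 2 G ⊓ cen t : Subgroup G) *
        Nat.card (Cfsg.pCore 2 G ⊓ cen t : Subgroup G) ≤ Nat.card (Cfsg.pCore 2 G) := by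
  haveI : Fact (Nat.Prime 2) := ⟨Nat.prime_two⟩
  obtain ⟨w, hwN, -, hwD⟩ := h.exists_normalizer (M := ⊤) le_top fun hs' => h.sizes.notSolv
    (Group.isSolvable_of_isSolvable_injective (f := (Subgroup.topEquiv (G := G)).symm.toMonoidHom)
      (Subgroup.topEquiv (G := G)).symm.injective)
  obtain ⟨p, v, hp, hvw, hvD, hvp⟩ := exists_primary_notMem hwD
  haveI := Fact.mk hp
  have hvN : v ∈ Subgroup.normalizer (D : Set G) := (Subgroup.zpowers_le.2 hwN) hvw
  obtain ⟨d, hd, hd1⟩ := h.exists_ne_one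
  have hR : ∀ {x : G}, x ∈ Subgroup.normalizer (D : Set G) → x ∈ solRad G → x ∈ D := fun hxN hxR =>
    h.fix_D hd hd1 (h.commute_of_comm_mem hd ((Subgroup.mem_normalizer_iff.1 hxN d).1 hd) hxR)
  have hvR : v ∉ solRad G := fun hh => hvD (hR hvN hh)
  have hpa : ¬ p ∣ a := fun hpa => by
    set N := Subgroup.normalizer (D : Set G)
    haveI : (D.subgroupOf N).Normal := Subgroup.normal_in_normalizer
    have hm : v ^ (D.subgroupOf N).index ∈ D := by
      have := Subgroup.pow_index_mem (D.subgroupOf N) (⟨v, hvN⟩ : N)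
      rwa [Subgroup.mem_subgroupOf, SubmonoidClass.coe_pow] at this
    refine hvD (mem_of_pow_coprime hm ?_)
    obtain ⟨i, hi⟩ := pel_orderOf hp hvp
    rw [hi]
    refine Nat.Coprime.pow_left i ((hp.coprime_iff_not_dvd).2 fun hd' =>
      hp.ne_one (Nat.eq_one_of_dvd_coprimes h.sizes.cop hpa (hd'.trans ?_)))
    exact h.index_eq ▸ Subgroup.relIndex_dvd_index_of_le (Subgroup.le_normalizer)
  rcases eq_or_ne p 2 with rfl | hp2
  · obtain ⟨k, hk⟩ := hvp
    have hex : ∃ m, v ^ 2 ^ m ∈ solRad G := ⟨k, hk ▸ one_mem _⟩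
    classical
    obtain ⟨m, hm⟩ := Nat.exists_eq_succ_of_ne_zero (show Nat.find hex ≠ 0 from fun e => hvR (by
      simpa [e] using Nat.find_spec hex))
    obtain ⟨t, ht⟩ : ∃ t, t = v ^ 2 ^ m := ⟨_, rfl⟩
    have htR : t ∉ solRad G := ht ▸ Nat.find_min hex (by omega)
    have htN : t ∈ Subgroup.normalizer (D : Set G) := ht ▸ pow_mem hvN _
    have htt : t * t ∈ solRad G := by
      have h2 := Nat.find_spec hex
      rw [hm] at h2
      rw [ht, ← pow_add, show 2 ^ m + 2 ^ m = 2 ^ (m + 1) by ring]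
      exact h2
    have htt1 : t * t = 1 := h.eq_one_of_mem_D_solRad (hR (mul_mem htN htN) htt) htt
    have hto : orderOf t = 2 :=
      orderOf_eq_prime (by rw [pow_two, htt1]) fun e => htR (e ▸ one_mem _)
    refine ⟨t, hto, htR, htN, h.card_sq_le htN fun htD => h.two_not_dvd ?_⟩
    exact h.card ▸ hto ▸ Subgroup.orderOf_dvd_natCard D htD
  exfalso
  obtain ⟨y, hy, hyR⟩ : ∃ y : G, IsPEl 2 y ∧ y ∉ solRad G := by
    by_contra hcon
    push Not at hcon
    exact h.solvable_of_two hcon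
  obtain ⟨t, ht, htR, htt⟩ : ∃ t : G, IsPEl 2 t ∧ t ∉ solRad G ∧ t * t ∈ solRad G := by
    obtain ⟨k, hk⟩ := hy
    have hex : ∃ m, y ^ 2 ^ m ∈ solRad G := ⟨k, hk ▸ one_mem _⟩
    classical
    obtain ⟨m, hm⟩ := Nat.exists_eq_succ_of_ne_zero (show Nat.find hex ≠ 0 from fun e => hyR (by
      simpa [e] using Nat.find_spec hex))
    refine ⟨y ^ 2 ^ m, ⟨k, by rw [← pow_mul, mul_comm, pow_mul, hk, one_pow]⟩,
      Nat.find_min hex (by omega), ?_⟩
    have h2 := Nat.find_spec hex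
    rw [hm] at h2
    rw [← pow_add, show 2 ^ m + 2 ^ m = 2 ^ (m + 1) by ring]
    exact h2
  -- compare the `2`-parts of the two centralisers
  have hvb := h.outer_b hp hpa hvp hvR
  have htb := h.outer_b Nat.prime_two h.two_not_dvd ht htR
  obtain ⟨P⟩ := (inferInstance : Nonempty (Sylow 2 (cen v)))
  have hleP : (P : Subgroup (cen v)).map (cen v).subtype ≤ Cfsg.pCore 2 G ⊓ cen v := by
    rintro _ ⟨x, hx, rfl⟩
    refine ⟨?_, x.2⟩
    have hx2 : IsPEl 2 ((cen v).subtype x) := by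
      obtain ⟨k, hk⟩ := isPEl_of_mem P.2 hx
      exact ⟨k, by rw [← map_pow, hk, map_one]⟩
    refine h.mem_pCore ?_ hx2
    by_contra hxR
    exact h.no_mix hp hp2 hpa hx2 hxR hvp hvR (show Commute ((cen v).subtype x) v from
      (mem_cen.1 x.2).symm)
  obtain ⟨B, hB⟩ : ∃ B, B = (Cfsg.pCore 2 G).subgroupOf (cen t) ⊔
      Subgroup.zpowers (⟨t, self_mem_cen t⟩ : cen t) := ⟨_, rfl⟩
  have ht' : IsPEl 2 (⟨t, self_mem_cen t⟩ : cen t) := ht.imp fun k hk => Subtype.ext hk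
  haveI : ((Cfsg.pCore 2 G).subgroupOf (cen t)).Normal :=
    Subgroup.Normal.subgroupOf inferInstance _
  have hB2 : IsPGroup 2 B := hB ▸ ((Cores.pCore_isPGroup (G := G) 2).comap_subtype
    |>.to_sup_of_normal_left (ht'.isPGroup Nat.prime_two))
  have hlt : Nat.card (Cfsg.pCore 2 G ⊓ cen t : Subgroup G) < Nat.card B := by
    rw [show Nat.card (Cfsg.pCore 2 G ⊓ cen t : Subgroup G) =
      Nat.card ((Cfsg.pCore 2 G).subgroupOf (cen t)) by
        rw [← Subgroup.inf_subgroupOf_right]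
        exact (Nat.card_congr (Subgroup.subgroupOfEquivOfLe inf_le_right).toEquiv).symm]
    refine lt_of_le_of_ne (Subgroup.card_le_of_le (hB ▸ le_sup_left)) fun e => htR (h.pCore_le 2 ?_)
    have heq := Subgroup.eq_of_le_of_card_ge (hB ▸ le_sup_left : _ ≤ B) e.ge
    exact heq.ge (hB ▸ Subgroup.mem_sup_right (Subgroup.mem_zpowers _))
  obtain ⟨T, hT⟩ := hB2.exists_le_sylow
  have h1 := Subgroup.card_le_of_le hT
  have h2 : Nat.card T = Nat.card P := by
    rw [T.card_eq_multiplicity, P.card_eq_multiplicity, h.card_cen_b htb hvb]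
  have h3 := Subgroup.card_le_of_le hleP
  rw [Subgroup.card_map_of_injective (cen v).subtype_injective] at h3
  have h4 := h.card_sq_le hvN hvD
  have h5 := h.card_core_le htR htt
  have h6 : Nat.card (Cfsg.pCore 2 G ⊓ cen t : Subgroup G) <
      Nat.card (Cfsg.pCore 2 G ⊓ cen v : Subgroup G) := by omega
  have := Nat.mul_lt_mul_of_lt_of_le h6 h6.le Nat.card_pos
  omega

/-- The final contradiction. -/
theorem contradiction' (h : CCData G a b c D) : False := by
  haveI : Fact (Nat.Prime 2) := ⟨Nat.prime_two⟩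
  obtain ⟨t, hto, htR, htN, hbig⟩ := h.exists_good_invol
  have htt := Involutions.Basic.invol_mul_self hto
  have ht2 : IsPEl 2 t := isPEl_of_orderOf (k := 1) (by rw [hto, pow_one])
  obtain ⟨q, hq, hq2, -, -, U, hUn, hU1, hUR, hUq, hUc⟩ := h.exists_odd_part
  haveI := hUn
  haveI := Fact.mk hq
  have hUp : IsPGroup q U := fun x => (hUq x x.2).imp fun k hk => Subtype.ext hk
  have hodd : Odd (Nat.card U) := by
    obtain ⟨i, hi⟩ := hUp.exists_card_eq
    exact hi ▸ (hq.odd_of_ne_two hq2).pow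
  set R := solRad G with hR
  -- a second involution modulo the radical commuting with `t`
  obtain ⟨x, hxR, hxtR, hx2, hxc⟩ : ∃ x : G, x ∉ R ∧ x * t ∉ R ∧ x * x ∈ R ∧
      x * t * x⁻¹ * t⁻¹ ∈ R := by
    by_contra hcon
    push Not at hcon
    have key : ∀ x : G ⧸ R, x ^ 2 = 1 → Commute x (t : G ⧸ R) → x = 1 ∨ x = (t : G ⧸ R) := by
      intro x hx hc
      induction x using QuotientGroup.induction_on with | _ x => ?_
      by_contra hne
      push Not at hne
      have h1 : x ∉ R := fun hh => hne.1 ((QuotientGroup.eq_one_iff x).2 hh)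
      have h2 : x * t ∉ R := fun hh => hne.2 (by
        have := (QuotientGroup.eq_one_iff (x * t)).2 hh
        rw [QuotientGroup.mk_mul, mul_eq_one_iff_eq_inv, ← QuotientGroup.mk_inv,
          Involutions.Basic.invol_inv hto] at this
        exact this)
      have h3 : x * x ∈ R := (QuotientGroup.eq_one_iff _).1 (by
        rw [QuotientGroup.mk_mul, ← pow_two]; exact hx)
      have h4 : x * t * x⁻¹ * t⁻¹ ∈ R := (QuotientGroup.eq_one_iff _).1 (by
        rw [QuotientGroup.mk_mul, QuotientGroup.mk_mul, QuotientGroup.mk_mul, hc.eq,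
          QuotientGroup.mk_inv, mul_inv_cancel_right, QuotientGroup.mk_inv, mul_inv_cancel])
      exact hcon x h1 h2 h3 h4
    have htne : (t : G ⧸ R) ≠ 1 := fun e => htR ((QuotientGroup.eq_one_iff t).1 e)
    have hto' : orderOf (t : G ⧸ R) = 2 := orderOf_eq_prime
      (by rw [← QuotientGroup.mk_pow, pow_two, htt]; rfl) htne
    obtain ⟨P, hP⟩ := (IsPGroup.of_card (p := 2) (n := 1) (G := Subgroup.zpowers (t : G ⧸ R))
      (by rw [Nat.card_zpowers, hto', pow_one])).exists_le_sylow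
    have htP : (t : G ⧸ R) ∈ (P : Subgroup (G ⧸ R)) := hP (Subgroup.mem_zpowers _)
    have hcomm : ∀ y ∈ (P : Subgroup (G ⧸ R)), Commute y (t : G ⧸ R) := by
      haveI : Nontrivial (P : Subgroup (G ⧸ R)) :=
        ⟨⟨_, htP⟩, 1, fun e => htne (congrArg Subtype.val e)⟩
      have := P.2.center_nontrivial
      obtain ⟨⟨z, hz⟩, hz1⟩ := exists_ne (1 : Subgroup.center (P : Subgroup (G ⧸ R)))
      obtain ⟨k, hk⟩ := pel_orderOf Nat.prime_two (isPEl_of_mem P.2 z.2)
      rcases k with _ | k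
      · exact fun _ _ => absurd (Subtype.ext (Subtype.ext (orderOf_eq_one_iff.1
          (hk.trans (pow_zero 2))))) hz1
      have hzc := Subgroup.mem_center_iff.1 (pow_mem hz (2 ^ k))
      have hzt : ((z : G ⧸ R)) ^ 2 ^ k = (t : G ⧸ R) := by
        refine (key _ (by rw [← pow_mul, ← pow_succ, ← hk, pow_orderOf_eq_one]) ?_).resolve_left ?_
        · have := congrArg Subtype.val (hzc ⟨_, htP⟩)
          simp only [Subgroup.coe_mul, SubmonoidClass.coe_pow] at this
          exact this.symm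
        · intro e
          have := orderOf_dvd_of_pow_eq_one e
          rw [hk] at this
          have := Nat.le_of_dvd (Nat.two_pow_pos k) this
          rw [pow_succ] at this
          have := Nat.two_pow_pos k
          omega
      intro y hy
      have := congrArg Subtype.val (hzc ⟨y, hy⟩)
      simp only [Subgroup.coe_mul, SubmonoidClass.coe_pow, hzt] at this
      exact this
    obtain ⟨N, hN, hNodd, hNt⟩ := ZStar.UniqueCase.zstar P (t : G ⧸ R) hto' htP fun g hg => by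
      refine (key _ ?_ (hcomm _ hg)).resolve_left fun e => htne (conj_eq_one_iff.1 e)
      rw [conj_pow, ← hto', pow_orderOf_eq_one, mul_one, mul_inv_cancel]
    haveI := hN
    have hNle : N.comap (QuotientGroup.mk' R) ≤ R := by
      haveI := OddOrder.FeitThompson.isSolvable_of_odd_card (G := N) hNodd
      haveI : Group.IsSolvable R := solRad_isSolvable
      refine le_solRad ?_
      refine Group.isSolvable_of_ker_le_range
        (Subgroup.inclusion (show R ≤ N.comap (QuotientGroup.mk' R) from fun r hr => by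
          rw [Subgroup.mem_comap, QuotientGroup.mk'_apply, (QuotientGroup.eq_one_iff r).2 hr]
          exact one_mem N))
        ((QuotientGroup.mk' R).subgroupComap N) ?_
      intro r hr
      refine ⟨⟨r, ?_⟩, Subtype.ext rfl⟩
      exact (QuotientGroup.eq_one_iff _).1 (congrArg Subtype.val hr)
    obtain ⟨d, hd, hd1⟩ := h.exists_ne_one
    have hdt : t * d * t⁻¹ * d⁻¹ ∈ R := hNle (by
      rw [Subgroup.mem_comap]
      exact hNt (d : G ⧸ R))
    have h1 : t * d * t⁻¹ * d⁻¹ = 1 := h.eq_one_of_mem_D_solRad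
      (D.mul_mem ((Subgroup.mem_normalizer_iff.1 htN d).1 hd) (D.inv_mem hd)) hdt
    rw [mul_inv_eq_one, mul_inv_eq_iff_eq_mul] at h1
    exact h.two_not_dvd (h.card ▸ hto ▸ Subgroup.orderOf_dvd_natCard D (h.fix_D hd hd1 h1))
  -- a `2`-element in that coset, commuting with `t` modulo the core
  obtain ⟨H, hH⟩ : ∃ H : Subgroup G,
      H = R ⊔ Subgroup.closure ({x, t} : Set G) := ⟨_, rfl⟩
  have hxH : x ∈ H := hH ▸ Subgroup.mem_sup_right (Subgroup.subset_closure (by simp))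
  have htH : t ∈ H := hH ▸ Subgroup.mem_sup_right (Subgroup.subset_closure (by simp))
  have himg : ∀ y ∈ H, (y : G ⧸ R) * (y : G ⧸ R) = 1 ∧ Commute (y : G ⧸ R) (x : G ⧸ R) ∧
      Commute (y : G ⧸ R) (t : G ⧸ R) := by
    have hxt : Commute (x : G ⧸ R) (t : G ⧸ R) := by
      have := (QuotientGroup.eq_one_iff _).2 hxc
      rw [QuotientGroup.mk_mul, QuotientGroup.mk_mul, QuotientGroup.mk_mul, QuotientGroup.mk_inv,
        QuotientGroup.mk_inv, mul_inv_eq_one, mul_inv_eq_iff_eq_mul] at this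
      exact this
    have hx' : (x : G ⧸ R) * x = 1 := (QuotientGroup.eq_one_iff (x * x)).2 hx2
    have ht' : (t : G ⧸ R) * t = 1 := by rw [← QuotientGroup.mk_mul, htt]; rfl
    intro y hy
    rw [hH] at hy
    obtain ⟨r, hr, k, hk, rfl⟩ := Subgroup.mem_sup_of_normal_left.1 hy
    rw [QuotientGroup.mk_mul, (QuotientGroup.eq_one_iff r).2 hr, one_mul]
    clear hy
    induction hk using Subgroup.closure_induction with
    | mem k hk =>
      rcases hk with rfl | rfl
      · exact ⟨hx', Commute.refl _, hxt⟩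
      · exact ⟨ht', hxt.symm, Commute.refl _⟩
    | one => exact ⟨by simp, Commute.one_left _, Commute.one_left _⟩
    | mul k l hk hl ihk ihl =>
      have hkl : Commute (k : G ⧸ R) (l : G ⧸ R) := by
        clear ihl
        induction hl using Subgroup.closure_induction with
        | mem l hl =>
          rcases hl with rfl | rfl
          · exact ihk.2.1
          · exact ihk.2.2
        | one => exact Commute.one_right _
        | mul _ _ _ _ i1 i2 => exact i1.mul_right i2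
        | inv _ _ i => exact i.inv_right
      refine ⟨?_, ihk.2.1.mul_left ihl.2.1, ihk.2.2.mul_left ihl.2.2⟩
      rw [QuotientGroup.mk_mul, hkl.symm.mul_mul_mul_comm, ihk.1, ihl.1, one_mul]
    | inv k hk ih =>
      exact ⟨by rw [QuotientGroup.mk_inv, ← mul_inv_rev, ih.1, inv_one], ih.2.1.inv_left,
        ih.2.2.inv_left⟩
  obtain ⟨S, hS⟩ := (IsPGroup.of_card (p := 2) (n := 1) (G := Subgroup.zpowers (⟨t, htH⟩ : H))
    (by rw [Nat.card_zpowers, Subgroup.orderOf_mk, hto, pow_one])).exists_le_sylow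
  have htS : (⟨t, htH⟩ : H) ∈ (S : Subgroup H) := hS (Subgroup.mem_zpowers _)
  have hcover : R.subgroupOf H ⊔ (S : Subgroup H) = ⊤ := by
    haveI : (R.subgroupOf H).Normal := solRad_normal.subgroupOf H
    rw [← Subgroup.index_eq_one]
    by_contra hne
    obtain ⟨p, hp, hpd⟩ := Nat.exists_prime_and_dvd hne
    obtain ⟨y, hyp, hy⟩ := exists_pel_dvd_index hp hpd
    have hp2 : p = 2 := by
      by_contra hp2
      refine hy (Subgroup.mem_sup_left (Subgroup.mem_subgroupOf.2 ?_))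
      refine mem_of_pow_coprime (i := 2) (H := R) ?_ ?_
      · exact (QuotientGroup.eq_one_iff _).1 (by
          rw [QuotientGroup.mk_pow, pow_two]; exact (himg _ y.2).1)
      · rw [Subgroup.orderOf_coe]
        obtain ⟨i, hi⟩ := pel_orderOf hp hyp
        exact hi ▸ Nat.Coprime.pow_left i ((Nat.coprime_primes hp Nat.prime_two).2 hp2)
    subst hp2
    exact S.not_dvd_index (hpd.trans (Subgroup.index_dvd_of_le le_sup_right))
  haveI : (R.subgroupOf H).Normal := solRad_normal.subgroupOf H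
  obtain ⟨r, hr, v, hv, hrv⟩ := Subgroup.mem_sup_of_normal_left.1
    (hcover ▸ Subgroup.mem_top (⟨x, hxH⟩ : H))
  have hxv : (r : G) * v = x := congrArg Subtype.val hrv
  have hSel : ∀ y ∈ (S : Subgroup H), IsPEl 2 (y : G) := fun y hy => by
    obtain ⟨k, hk⟩ := isPEl_of_mem S.2 hy
    exact ⟨k, by rw [← SubmonoidClass.coe_pow, hk]; rfl⟩
  have hA : Cfsg.pCore 2 G ≤ R := h.pCore_le 2
  have hAS : ∀ g (hg : g ∈ Cfsg.pCore 2 G),
      (⟨g, hH ▸ Subgroup.mem_sup_left (hA hg)⟩ : H) ∈ (S : Subgroup H) := fun g hg => by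
    haveI : ((Cfsg.pCore 2 G).subgroupOf H).Normal := Subgroup.Normal.subgroupOf inferInstance H
    exact (S.is_maximal' ((Cores.pCore_isPGroup (G := G) 2).comap_subtype
      |>.to_sup_of_normal_left S.2) le_sup_right).le (Subgroup.mem_sup_left hg)
  obtain ⟨k, hk⟩ : ∃ k, k = (v : G) * t * (v : G)⁻¹ * t⁻¹ := ⟨_, rfl⟩
  have hkA : k ∈ Cfsg.pCore 2 G := by
    refine h.mem_pCore ((QuotientGroup.eq_one_iff k).1 ?_)
      (hk ▸ hSel (v * ⟨t, htH⟩ * v⁻¹ * (⟨t, htH⟩ : H)⁻¹)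
        (mul_mem (mul_mem (mul_mem hv htS) (inv_mem hv)) (inv_mem htS)))
    rw [hk, QuotientGroup.mk_mul, QuotientGroup.mk_mul, QuotientGroup.mk_mul,
      (himg (v : G) v.2).2.2.eq, QuotientGroup.mk_inv, mul_inv_cancel_right, QuotientGroup.mk_inv,
      mul_inv_cancel]
  have hkinv : t * k * t⁻¹ = k⁻¹ := by
    rw [hk, Involutions.Basic.invol_inv hto]
    calc t * ((v : G) * t * (v : G)⁻¹ * t) * t = t * (v : G) * t * (v : G)⁻¹ * (t * t) := by group
      _ = ((v : G) * t * (v : G)⁻¹ * t)⁻¹ := by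
        rw [htt, mul_one]
        simp only [mul_inv_rev, inv_inv, Involutions.Basic.invol_inv hto, mul_assoc]
  have hksq := h.sq_eq_one_of_inverted htR hkA hkinv
  have hkt : Commute t k := by
    have := hkinv.trans (inv_eq_of_mul_eq_one_right hksq)
    exact mul_inv_eq_iff_eq_mul.1 this
  obtain ⟨g, hg, hgk⟩ := h.surj_of_card_eq htR (by rw [htt]; exact one_mem _) hbig hkA hkt
  obtain ⟨w, hw⟩ : ∃ w, w = g * (v : G) := ⟨_, rfl⟩
  have hwt : Commute w t := by
    refine (show Commute t w from mul_inv_eq_iff_eq_mul.1 ?_).symm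
    have e1 : t * g * t⁻¹ = g * k := by rw [← hgk, mul_inv_cancel_left]
    have e2 : t * (v : G) * t⁻¹ = k⁻¹ * v := by rw [hk]; group
    calc t * w * t⁻¹ = (t * g * t⁻¹) * (t * (v : G) * t⁻¹) := by rw [hw]; group
      _ = w := by rw [e1, e2, hw]; group
  have hwS : (⟨w, hw ▸ mul_mem (hH ▸ Subgroup.mem_sup_left (hA hg)) v.2⟩ : H) ∈ (S : Subgroup H) := by
    have : (⟨w, hw ▸ mul_mem (hH ▸ Subgroup.mem_sup_left (hA hg)) v.2⟩ : H) =
        (⟨g, hH ▸ Subgroup.mem_sup_left (hA hg)⟩ : H) * v := Subtype.ext hw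
    rw [this]
    exact mul_mem (hAS g hg) hv
  have hw2 : IsPEl 2 w := hSel _ hwS
  have hwt2 : IsPEl 2 (w * t) := hSel (⟨w, _⟩ * ⟨t, htH⟩) (mul_mem hwS htS)
  have hwimg : (w : G ⧸ R) = (x : G ⧸ R) := by
    rw [hw, ← hxv, QuotientGroup.mk_mul, QuotientGroup.mk_mul, (QuotientGroup.eq_one_iff g).2 (hA hg),
      (QuotientGroup.eq_one_iff (r : G)).2 hr]
  have hwR : w ∉ R := fun hh => hxR ((QuotientGroup.eq_one_iff x).1
    (hwimg ▸ (QuotientGroup.eq_one_iff w).2 hh))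
  have hwtR : w * t ∉ R := fun hh => hxtR ((QuotientGroup.eq_one_iff (x * t)).1 (by
    rw [QuotientGroup.mk_mul, ← hwimg, ← QuotientGroup.mk_mul]
    exact (QuotientGroup.eq_one_iff _).2 hh))
  have hww : w * w ∈ R := (QuotientGroup.eq_one_iff _).1 (by
    rw [QuotientGroup.mk_mul, hwimg, ← QuotientGroup.mk_mul]
    exact (QuotientGroup.eq_one_iff _).2 hx2)
  have hfix : ∀ {y z e : G}, IsPEl 2 y → y ∉ R → Commute y z → e ∈ U → Commute y e → Commute z e := by
    intro y z e hy hyR hyz he hye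
    have h1 := h.sizes.cen_le_b (h.outer_b Nat.prime_two h.two_not_dvd hy hyR) (mem_cen.2 hye.eq)
      (hy.coprime_orderOf Nat.prime_two hq (Ne.symm hq2) (hUq e he))
    exact (show Commute e z from mem_cen.1 (h1 (mem_cen.2 hyz.eq))).symm
  have hfour := four_fix (E := U) (fun x hx y hy => hUc y hy x (hUR hx)) hodd (s := w) (t := t)
    hwt (fun e he => hUc e he _ hww) (fun e _ => by rw [htt]; exact Commute.one_left e)
    (fun e he hc => hfix hw2 hwR hwt he hc) (fun e he hc => hfix ht2 htR hwt.symm he hc)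
    (fun e he hc => hfix hwt2 hwtR (hwt.mul_left (Commute.refl t)) he hc)
  exact hwR (h.cent_le hUR hU1 (Subgroup.mem_centralizer_iff.2 fun e he => (hfour e he).eq.symm))

end CCData

end Cfsg.Agent.Lib.RankThree72
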