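import Cfsg.Agent.Lib.RankThree72.CC
import Cfsg.Agent.Lib.SzDegrees.Exceptional
import Cfsg.Agent.Lib.Characters.Transitive
import Cfsg.Agent.Lib.Induced.Integral

/-!
# An element of size `a` outside the radical fixes one coset of each centraliser of size `a`

The permutation character on the cosets vanishes on `D` off the identity, so all its non-principal
constituents are exceptional for `D`; their degrees are prime to `a`, and Burnside's lemma applies.
-/

set_option autoImplicit false
set_option linter.unusedSectionVars false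
set_option linter.style.haveILetI false

namespace Cfsg.Agent.Lib.RankThree72

open scoped ComplexConjugate Classical
open Cfsg.Agent.Lib.ClassSizes.Basic Cfsg.Agent.Lib.ClassSizes.CopTools
open Cfsg.Agent.Lib.PrimePowerClass.Radical
open Cfsg.Agent.Lib.Induced.Basic Cfsg.Agent.Lib.Characters.Basic

universe u

variable {G : Type u} [Group G] [Fintype G] {a b c : ℕ} {D : Subgroup G}

namespace CCData

theorem fix_one (h : CCData G a b c D) {y x : G} (hy : idx y = a) (hx : idx x = a)
    (hxR : x ∉ solRad G) : Nat.card (MulAction.fixedBy (G ⧸ cen y) x) = 1 := by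
  have ha1 := h.sizes.one_lt_a
  set π : G → ℂ := Characters.Transitive.permChar (G ⧸ cen y) with hπ
  haveI := Fintype.ofFinite (Cfsg.IrrCharacter G)
  have hX : Nat.card (G ⧸ cen y) = a := by rw [← Subgroup.index_eq_card]; exact hy
  have hπd : ∀ d : D, (d : G) ≠ 1 → π (d : G) = 0 := by
    intro d hd1
    have : IsEmpty (MulAction.fixedBy (G ⧸ cen y) (d : G)) := ⟨fun ⟨q, hq⟩ => by
      induction q using QuotientGroup.induction_on with | _ g => ?_
      rw [MulAction.mem_fixedBy, MulAction.Quotient.smul_mk, eq_comm, QuotientGroup.eq] at hq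
      have h1 : g⁻¹ * (d : G) * g ∈ cen y := by simpa [mul_assoc] using hq
      have h2 : orderOf (d : G) ∣ c := by
        rw [← h.card_cen_a hy, show orderOf (d : G) = orderOf (g⁻¹ * (d : G) * g) by
          rw [← Involutions.Basic.orderOf_conj_eq g⁻¹, inv_inv]]
        exact Subgroup.orderOf_dvd_natCard _ h1
      have h3 : orderOf (d : G) ∣ a := h.card ▸ Subgroup.orderOf_dvd_natCard D d.2
      exact hd1 (orderOf_eq_one_iff.1 (Nat.eq_one_of_dvd_coprimes h.sizes.cop h3 h2))⟩
    rw [hπ, Characters.Transitive.permChar, Nat.card_eq_zero.2 (Or.inl this), Nat.cast_zero]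
  have hπ1 : π 1 = a := by
    rw [hπ, Characters.Transitive.permChar, MulAction.fixedBy_one_eq_univ, Nat.card_univ, hX]
  set ψ : G → ℂ := fun g => π g - 1 with hψ
  have hψc : Cfsg.IsCharacter G ψ :=
    Characters.Transitive.isCharacter_permChar_sub_one (G ⧸ cen y)
  choose n hn using fun χ : Cfsg.IrrCharacter G => exists_classInner_nat hψc (isCharacter_irr χ)
  have hdec : ψ = ∑ χ : Cfsg.IrrCharacter G, (n χ : ℂ) • (χ : G → ℂ) := by
    conv_lhs => rw [Characters.Complete.classFunction_eq_sum (isClassFunction_of_isCharacter hψc)]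
    simp only [hn]
  have hnat : ∀ (χ : Cfsg.IrrCharacter G) (μ : D →* ℂˣ),
      ∃ k : ℕ, SzDegrees.mult (χ : G → ℂ) μ = k := fun χ μ =>
    exists_classInner_nat (isCharacter_comp D.subtype (isCharacter_irr χ))
      (isCharacter_irr (Characters.Linear.linChar μ))
  choose M hM using hnat
  have hsum : ∀ μ : D →* ℂˣ, ∑ χ, n χ * M χ μ = if μ = 1 then 0 else 1 := by
    intro μ
    have h1 : SzDegrees.mult ψ μ = ∑ χ, (n χ : ℂ) * (M χ μ : ℂ) := by
      rw [SzDegrees.mult, show (fun d : D => ψ d) =
          ∑ χ : Cfsg.IrrCharacter G, (n χ : ℂ) • (fun d : D => (χ : G → ℂ) d) by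
        funext d; simp [congrFun hdec d], classInner_sum_left]
      refine Finset.sum_congr rfl fun χ _ => ?_
      rw [classInner_smul_left, ← hM]
      rfl
    have h2 : SzDegrees.mult ψ μ = 1 - (if (1 : D →* ℂˣ) = μ then 1 else 0 : ℂ) := by
      rw [SzDegrees.mult, show (fun d : D => ψ d) =
          (fun d : D => π d) - SzDegrees.lfun (1 : D →* ℂˣ) by
        funext d; simp [hψ, SzDegrees.lfun], classInner_sub_left, SzDegrees.classInner_lfun]
      congr 1
      rw [Cfsg.classInner, Finset.sum_eq_single (1 : D) (fun d _ hd => by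
        rw [hπd d fun e => hd (Subtype.ext e), zero_mul]) (fun hm => absurd (Finset.mem_univ _) hm)]
      simp [SzDegrees.lfun, hπ1, h.card]
      field_simp
      exact_mod_cast (h.card.symm.trans Nat.card_eq_fintype_card)
    rw [h2] at h1
    have h3 : ((∑ χ, n χ * M χ μ : ℕ) : ℂ) = ((if μ = 1 then 0 else 1 : ℕ) : ℂ) := by
      push_cast
      rw [← h1]
      rcases eq_or_ne μ 1 with rfl | hμ
      · simp
      · rw [if_neg hμ, if_neg (Ne.symm hμ)]
        simp
    exact_mod_cast h3
  suffices hzero : ∀ χ : Cfsg.IrrCharacter G, n χ ≠ 0 → (χ : G → ℂ) x = 0 by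
    have h1 : ψ x = 0 := by
      rw [congrFun hdec x, Finset.sum_apply]
      refine Finset.sum_eq_zero fun χ _ => ?_
      rcases Nat.eq_zero_or_pos (n χ) with h0 | h0
      · simp [h0]
      · simp [hzero χ h0.ne']
    have h2 : ((Nat.card (MulAction.fixedBy (G ⧸ cen y) x) : ℕ) : ℂ) = ((1 : ℕ) : ℂ) := by
      rw [Nat.cast_one]; exact sub_eq_zero.1 h1
    exact_mod_cast h2
  intro χ hχ
  have hM1 : M χ 1 = 0 := by
    have h1 := hsum 1
    rw [if_pos rfl, Finset.sum_eq_zero_iff] at h1
    exact (Nat.mul_eq_zero.1 (h1 χ (Finset.mem_univ _))).resolve_left hχ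
  have hle : ∀ μ, M χ μ ≤ 1 := by
    intro μ
    rcases eq_or_ne μ 1 with rfl | hμ
    · omega
    have h1 := Finset.single_le_sum (f := fun χ' => n χ' * M χ' μ) (fun _ _ => Nat.zero_le _)
      (Finset.mem_univ χ)
    rw [hsum μ, if_neg hμ] at h1
    exact (Nat.le_mul_of_pos_left _ (Nat.pos_of_ne_zero hχ)).trans h1
  set S : Finset (D →* ℂˣ) := Finset.univ.filter fun μ => M χ μ = 1 with hS
  have hres : (fun d : D => (χ : G → ℂ) d) = SzDegrees.yfun S := by
    funext d
    rw [SzDegrees.expand h.isCC (fun d : D => (χ : G → ℂ) d) d, SzDegrees.yfun, hS,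
      Finset.sum_filter]
    refine Finset.sum_congr rfl fun μ _ => ?_
    rw [show Cfsg.classInner (fun d : D => (χ : G → ℂ) d) (SzDegrees.lfun μ) = (M χ μ : ℂ) from
      hM χ μ]
    rcases Nat.le_one_iff_eq_zero_or_eq_one.1 (hle μ) with h0 | h0 <;> simp [h0]
  have hdeg : (χ : G → ℂ) 1 = (S.card : ℂ) := by
    have h1 := congrFun hres 1
    rwa [SzDegrees.yfun_one] at h1
  have hS0 : S.Nonempty := by
    rw [← Finset.card_ne_zero]
    intro h0
    rw [h0, Nat.cast_zero] at hdeg
    exact apply_one_ne_zero χ hdeg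
  obtain ⟨μ₀, hμ₀⟩ := hS0
  have hμ₀1 : μ₀ ≠ 1 := fun e => by
    have h1 := (Finset.mem_filter.1 hμ₀).2
    rw [e, hM1] at h1
    exact zero_ne_one h1
  have hinv : ∀ μ ∈ S, SzDegrees.orb μ ⊆ S := by
    intro μ hμ κ hκ
    refine Finset.mem_filter.2 ⟨Finset.mem_univ _, ?_⟩
    have h1 := SzDegrees.mult_orb (isClassFunction_irr χ) hκ
    rw [hM, hM, Nat.cast_inj] at h1
    exact h1.trans (Finset.mem_filter.1 hμ).2
  obtain ⟨e, he0⟩ : ∃ e, e = (SzDegrees.orb μ₀).card := ⟨_, rfl⟩
  have he : ∀ ν : D →* ℂˣ, ν ≠ 1 → (SzDegrees.orb ν).card = e := fun ν hν => by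
    have h1 := (SzDegrees.card_orb_mul h.isCC hν).trans (SzDegrees.card_orb_mul h.isCC hμ₀1).symm
    rw [he0]
    exact Nat.eq_of_mul_eq_mul_right Nat.card_pos h1
  have hec : e ∣ c := by
    have h1 := SzDegrees.card_orb_mul h.isCC hμ₀1
    rw [← he0, h.card] at h1
    have h2 : e * a ∣ c * a := by
      rw [h1, mul_comm c a, h.card_mul]
      exact Subgroup.card_subgroup_dvd_card _
    exact (Nat.mul_dvd_mul_iff_right (by omega)).1 h2
  have heS : e ≤ S.card := he0 ▸ Finset.card_le_card (hinv μ₀ hμ₀)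
  have hcop : S.card.Coprime a := by
    by_cases hall : ∀ ν : D →* ℂˣ, ν ≠ 1 → ν ∈ S
    · have h1 : S = Finset.univ.erase 1 := by
        ext ν
        refine ⟨fun hν => Finset.mem_erase.2 ⟨fun e => ?_, Finset.mem_univ _⟩,
          fun hν => hall ν (Finset.mem_erase.1 hν).1⟩
        have h2 := (Finset.mem_filter.1 hν).2
        rw [e, hM1] at h2
        exact zero_ne_one h2
      rw [h1, Finset.card_erase_of_mem (Finset.mem_univ _), Finset.card_univ,
        SzDegrees.card_dual h.isCC, h.card]
      refine Nat.coprime_of_dvd fun p hp h2 h3 => hp.ne_one ?_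
      have h4 := Nat.dvd_sub h3 h2
      rw [show a - (a - 1) = 1 by omega] at h4
      exact Nat.dvd_one.1 h4
    · push Not at hall
      obtain ⟨ν, hν1, hνS⟩ := hall
      obtain ⟨χ', hχ'⟩ : ∃ χ', n χ' * M χ' ν ≠ 0 := by
        by_contra hcon
        push Not at hcon
        have h1 := hsum ν
        rw [if_neg hν1, Finset.sum_eq_zero fun χ' _ => hcon χ'] at h1
        exact zero_ne_one h1
      have hne : χ' ≠ χ := by
        rintro rfl
        exact hνS (Finset.mem_filter.2 ⟨Finset.mem_univ _,
          le_antisymm (hle ν) (Nat.pos_of_ne_zero (right_ne_zero_of_mul hχ'))⟩)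
      have hχ'ν : M χ' ν = 1 := by
        have h1 := Finset.single_le_sum (f := fun χ'' => n χ'' * M χ'' ν) (fun _ _ => Nat.zero_le _)
          (Finset.mem_univ χ')
        rw [hsum ν, if_neg hν1] at h1
        exact Nat.eq_one_of_mul_eq_one_left (le_antisymm h1 (Nat.pos_of_ne_zero hχ'))
      have key : ∀ μ ∈ S, SzDegrees.dfun μ ν = (χ : G → ℂ) - (χ' : G → ℂ) := by
        intro μ hμ
        have hμ1 : μ ≠ 1 := fun e => by
          have h1 := (Finset.mem_filter.1 hμ).2
          rw [e, hM1] at h1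
          exact zero_ne_one h1
        have horb : SzDegrees.orb μ ≠ SzDegrees.orb ν := fun e =>
          hνS (hinv μ hμ (e ▸ SzDegrees.self_mem_orb ν))
        obtain ⟨α, β, hab, hd⟩ := SzDegrees.dfun_pair h.isCC he hμ1 hν1 horb
        have hmult : ∀ χ'' : Cfsg.IrrCharacter G,
            ((if χ'' = α then 1 else 0) - if χ'' = β then 1 else 0 : ℂ) =
              (M χ'' μ : ℂ) - M χ'' ν := by
          intro χ''
          rw [← hM, ← hM, ← SzDegrees.classInner_dfun μ ν (isClassFunction_irr χ''), hd,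
            classInner_sub_right, classInner_irr, classInner_irr]
        have hα : χ = α := by
          by_contra hχα
          have h1 := hmult χ
          rw [if_neg hχα, (Finset.mem_filter.1 hμ).2,
            show M χ ν = 0 from (Nat.le_one_iff_eq_zero_or_eq_one.1 (hle ν)).resolve_right
              fun h0 => hνS (Finset.mem_filter.2 ⟨Finset.mem_univ _, h0⟩)] at h1
          split_ifs at h1 <;> norm_num at h1
        have hβ : χ' = β := by
          by_contra hχβ
          have hμ' : n χ' * M χ' μ = 0 := by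
            have h1 := Finset.add_le_sum (f := fun χ'' => n χ'' * M χ'' μ)
              (fun _ _ => Nat.zero_le _) (Finset.mem_univ χ) (Finset.mem_univ χ') hne.symm
            rw [hsum μ, if_neg hμ1] at h1
            simp only [(Finset.mem_filter.1 hμ).2, mul_one] at h1
            omega
          have h1 := hmult χ'
          rw [if_neg hχβ, if_neg (fun e' => hne (e'.trans hα.symm)), hχ'ν,
            (Nat.mul_eq_zero.1 hμ').resolve_left (left_ne_zero_of_mul hχ')] at h1
          norm_num at h1
        rw [hd, hα, hβ]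
      have horb : S = SzDegrees.orb μ₀ := by
        refine le_antisymm (fun μ hμ => ?_) (hinv μ₀ hμ₀)
        by_contra hmem
        have hμ1 : μ ≠ 1 := fun e => by
          have h1 := (Finset.mem_filter.1 hμ).2
          rw [e, hM1] at h1
          exact zero_ne_one h1
        have h0 : SzDegrees.dfun μ₀ μ = 0 := by
          have h1 := key μ hμ
          have h2 := key μ₀ hμ₀
          rw [SzDegrees.dfun] at h1 h2 ⊢
          rw [← sub_eq_zero.2 (h2.trans h1.symm)]
          abel
        have h1 := SzDegrees.inner_dfun h.isCC he μ₀ μ hμ₀1 hμ1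
        rw [h0, classInner_zero_left, if_pos (SzDegrees.self_mem_orb μ₀),
          if_pos (SzDegrees.self_mem_orb μ), if_neg hmem, if_neg (show μ₀ ∉ SzDegrees.orb μ from
            fun hz => hmem ((SzDegrees.orb_eq hz).ge (SzDegrees.self_mem_orb μ)))] at h1
        norm_num at h1
      rw [horb, ← he0]
      exact Nat.Coprime.of_dvd_left hec h.sizes.cop.symm
  obtain ⟨m, ρ, hρ, hρχ⟩ := χ.2
  haveI := hρ
  have hfin : Module.finrank ℂ (Fin m → ℂ) = S.card := by
    have h1 := hdeg
    rw [← hρχ, Representation.char_one] at h1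
    exact_mod_cast h1
  rcases Induced.Integral.zero_or_norm_eq_of_coprime ρ x
      (by rw [hfin, show (Subgroup.centralizer ({x} : Set G)).index = a from hx]; exact hcop) with
    h0 | h0
  · rw [← hρχ]; exact h0
  exfalso
  obtain ⟨s, hs⟩ := Induced.Integral.scalar_of_norm_character_eq ρ h0
  set Z : Subgroup G :=
    { carrier := {g | ∃ s : ℂ, ρ g = s • LinearMap.id}
      mul_mem' := by
        rintro g g' ⟨s, hs⟩ ⟨s', hs'⟩
        exact ⟨s * s', by rw [map_mul, hs, hs']; ext v; simp [mul_assoc, mul_left_comm]⟩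
      one_mem' := ⟨1, by rw [map_one, one_smul]; rfl⟩
      inv_mem' := by
        rintro g ⟨s, hs⟩
        refine ⟨s ^ (orderOf g - 1), ?_⟩
        rw [show g⁻¹ = g ^ (orderOf g - 1) from inv_eq_of_mul_eq_one_right (by
          rw [← pow_succ', Nat.sub_add_cancel (orderOf_pos g), pow_orderOf_eq_one]),
          map_pow, hs, smul_pow]
        congr 1
        exact one_pow _ } with hZ
  haveI : Z.Normal := ⟨by
    rintro g ⟨s, hs⟩ k
    refine ⟨s, ?_⟩
    rw [map_mul, map_mul, hs, mul_smul_comm, smul_mul_assoc, show (LinearMap.id : Module.End ℂ (Fin m → ℂ)) = 1 from rfl,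
      mul_one, ← map_mul, mul_inv_cancel, map_one]⟩
  have hDZ : D ≤ Z :=
    (h.le_or_solvable Z).resolve_left fun hle => hxR (hle ⟨s, hs⟩)
  have hpos : 0 < Module.finrank ℂ (Fin m → ℂ) := finrank_pos_of_isIrreducible ρ
  have hnorm : ∀ d : D, (χ : G → ℂ) d * conj ((χ : G → ℂ) d) = (S.card : ℂ) ^ 2 := by
    intro d
    obtain ⟨t, ht⟩ := hDZ d.2
    have htn : t ^ orderOf (d : G) = 1 := by
      have h1 : ρ ((d : G) ^ orderOf (d : G)) = 1 := by rw [pow_orderOf_eq_one, map_one]
      rw [map_pow, ht, smul_pow, show (LinearMap.id : Module.End ℂ (Fin m → ℂ)) = 1 from rfl,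
        one_pow] at h1
      have h2 := congrArg (LinearMap.trace ℂ (Fin m → ℂ)) h1
      rw [map_smul, LinearMap.trace_one, smul_eq_mul] at h2
      exact (mul_eq_right₀ (by exact_mod_cast hpos.ne')).1 h2
    have hval : (χ : G → ℂ) d = t * (S.card : ℂ) := by
      rw [← hρχ, Representation.character, ht, map_smul, LinearMap.trace_id, smul_eq_mul, hfin]
    have ht1 : t * conj t = 1 := by
      rw [Complex.mul_conj', Complex.norm_eq_one_of_pow_eq_one htn (orderOf_pos _).ne']
      norm_num
    rw [hval, map_mul, map_natCast]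
    linear_combination (S.card : ℂ) ^ 2 * ht1
  have hsq : (S.card : ℂ) ^ 2 = (S.card : ℂ) := by
    have h1 : Cfsg.classInner (fun d : D => (χ : G → ℂ) d) (fun d : D => (χ : G → ℂ) d) =
        (S.card : ℂ) ^ 2 := by
      rw [Cfsg.classInner, Finset.sum_congr rfl fun d _ => hnorm d, Finset.sum_const,
        Finset.card_univ, nsmul_eq_mul, ← Nat.card_eq_fintype_card, ← mul_assoc,
        inv_mul_cancel₀ natCard_ne_zero, one_mul]
    rw [← h1]
    conv_lhs => arg 2; rw [hres]
    rw [SzDegrees.yfun_eq_sum, classInner_sum_right, Finset.sum_congr rfl fun μ hμ =>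
      (show Cfsg.classInner (fun d : D => (χ : G → ℂ) d) (SzDegrees.lfun μ) = 1 by
        rw [show Cfsg.classInner (fun d : D => (χ : G → ℂ) d) (SzDegrees.lfun μ) = (M χ μ : ℂ) from
          hM χ μ, (Finset.mem_filter.1 hμ).2, Nat.cast_one])]
    simp
  have hS1 : S.card = 1 := by
    have h2 : S.card ^ 2 = S.card := by exact_mod_cast hsq
    have h3 : 0 < S.card := hfin ▸ hpos
    rw [sq] at h2
    exact Nat.eq_of_mul_eq_mul_left h3 (h2.trans (mul_one _).symm)
  have hN := SzDegrees.card_orb_mul h.isCC hμ₀1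
  have he1 : (SzDegrees.orb μ₀).card = 1 :=
    le_antisymm (by omega) (Finset.card_pos.2 ⟨μ₀, SzDegrees.self_mem_orb μ₀⟩)
  rw [he1, one_mul] at hN
  obtain ⟨w, hwN, -, hwD⟩ := h.exists_normalizer (M := ⊤) le_top fun hs' => h.sizes.notSolv
    (Group.isSolvable_of_isSolvable_injective (f := (Subgroup.topEquiv (G := G)).symm.toMonoidHom)
      (Subgroup.topEquiv (G := G)).symm.injective)
  exact hwD ((Subgroup.eq_of_le_of_card_ge Subgroup.le_normalizer hN.ge).ge hwN)

end CCData

end Cfsg.Agent.Lib.RankThree72
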