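import Cfsg.Agent.Lib.RankThree72.FixOne
import Cfsg.Agent.Lib.Induced.FrobeniusKernel

/-!
# A primary element of size `a` outside the radical makes its centraliser a Frobenius complement
-/

set_option autoImplicit false
set_option linter.style.haveILetI false

namespace Cfsg.Agent.Lib.RankThree72

open Cfsg.Agent.Lib.ClassSizes.Basic Cfsg.Agent.Lib.ClassSizes.CopTools
open Cfsg.Agent.Lib.PrimePowerClass.Radical
open scoped Pointwise

universe u

variable {G : Type u} [Group G] [Finite G] {a b c : ℕ} {D : Subgroup G}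

namespace CCData

theorem conj_mem_smul (g x : G) (H : Subgroup G) : x ∈ MulAut.conj g • H ↔ g⁻¹ * x * g ∈ H := by
  rw [Subgroup.mem_pointwise_smul_iff_inv_smul_mem]
  simp [MulAut.smul_def, MulAut.inv_def, mul_assoc]

/-- No element outside the radical fixes two cosets. -/
theorem fix_eq (h : CCData G a b c D) {y x : G} (hy : idx y = a) (hx : idx x = a)
    (hxR : x ∉ solRad G) {p q : G ⧸ cen y} (hp : x • p = p) (hq : x • q = q) : p = q := by
  haveI := Fintype.ofFinite G
  obtain ⟨hs, -⟩ := Nat.card_eq_one_iff_unique.1 (h.fix_one hy hx hxR)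
  exact congrArg Subtype.val (hs.elim ⟨p, hp⟩ ⟨q, hq⟩)

theorem smul_mk_eq {H : Subgroup G} {x g : G} (hx : g⁻¹ * x * g ∈ H) :
    x • (QuotientGroup.mk g : G ⧸ H) = QuotientGroup.mk g := by
  rw [MulAction.Quotient.smul_mk, eq_comm, QuotientGroup.eq]
  simpa [mul_assoc] using hx

/-- Every primary element of size `a` lies in the radical. -/
theorem primary_mem_solRad (h : CCData G a b c D) {r : ℕ} (hr : r.Prime) {y : G}
    (hyr : IsPEl r y) (hy : idx y = a) : y ∈ solRad G := by
  by_contra hyR
  haveI := Fact.mk hr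
  have hy1 : y ≠ 1 := h.sizes.ne_one_of_idx (Or.inl hy)
  have hra : ¬ r ∣ a := fun hd =>
    h.sizes.a_ne_c (hy.symm.trans ((h.prime_dvd_iff hr hyr hy1).1 hd))
  have hni : ∀ g : G, g ∉ cen y → g * y * g⁻¹ ≠ y := fun g hg e =>
    hg (mem_cen.2 (mul_inv_eq_iff_eq_mul.1 e).symm)
  -- two conjugates in a nilpotent subgroup
  have hnil : ∀ (g : G) (K : Subgroup G), Group.IsNilpotent K → y ∈ K → g * y * g⁻¹ ∈ K →
      g ∈ cen y := by
    intro g K hK hyK hgK
    by_contra hg
    obtain ⟨Q⟩ := (inferInstance : Nonempty (Sylow r K))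
    have hn : (Q : Subgroup K).Normal :=
      Sylow.normal_of_normalizerCondition Group.normalizerCondition_of_isNilpotent Q
    have hmem : ∀ {v : G} (hv : v ∈ K), IsPEl r v → (⟨v, hv⟩ : K) ∈ (Q : Subgroup K) := by
      intro v hv hvr
      have hp : IsPEl r (⟨v, hv⟩ : K) := by
        obtain ⟨k, hk⟩ := hvr
        exact ⟨k, Subtype.ext (by rw [SubmonoidClass.coe_pow]; exact hk)⟩
      haveI := hn
      exact (Q.is_maximal' ((hp.isPGroup hr).to_sup_of_normal_right Q.2) le_sup_right).le
        (Subgroup.mem_sup_left (Subgroup.mem_zpowers _))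
    have hPg : IsPGroup r ((Q : Subgroup K).map K.subtype) := Q.2.map K.subtype
    obtain ⟨P, hP⟩ := hPg.exists_le_sylow
    have hyP : y ∈ (P : Subgroup G) := hP ⟨_, hmem hyK hyr, rfl⟩
    have hgP : g * y * g⁻¹ ∈ (P : Subgroup G) :=
      hP ⟨_, hmem hgK (ClassSizesFour21.conj_isPEl hyr g), rfl⟩
    obtain ⟨q, hq⟩ := P.2.nonempty_fixed_point_of_prime_not_dvd_card (G ⧸ cen y) (by
      rw [← Subgroup.index_eq_card, show (cen y).index = a from hy]; exact hra)
    have hfix : ∀ z ∈ (P : Subgroup G), z • q = q := fun z hz => hq ⟨z, hz⟩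
    have h1 := h.fix_eq hy hy hyR (hfix y hyP)
      (smul_mk_eq (g := (1 : G)) (by simpa using self_mem_cen y))
    have hgyR : g * y * g⁻¹ ∉ solRad G := fun hm => hyR (by
      simpa [mul_assoc] using (solRad_normal (G := G)).conj_mem _ hm g⁻¹)
    have h2 := h.fix_eq hy ((conj_idx' g y).trans hy) hgyR (hfix _ hgP)
      (smul_mk_eq (g := g) (by simpa [mul_assoc] using self_mem_cen y))
    refine hg ?_
    have h3 := h1.symm.trans h2
    rw [QuotientGroup.eq, inv_one, one_mul] at h3
    exact h3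
  have hTI : ∀ g : G, g ∉ cen y → cen y ⊓ MulAut.conj g • cen y = ⊥ := by
    intro g hg
    rw [Subgroup.eq_bot_iff_forall]
    rintro x ⟨hx, hxg⟩
    by_contra hx1
    obtain ⟨p, u, hp, hup, hu1, huz, hle⟩ := exists_primary hx1
    have hyu : y ∈ cen u := hle (mem_cen_comm.1 hx)
    have huy : u ∈ cen y := mem_cen_comm.1 hyu
    have hug : g⁻¹ * u * g ∈ cen y :=
      (conj_mem_smul g u _).1 (Subgroup.zpowers_le.2 hxg huz)
    have hgu : g * y * g⁻¹ ∈ cen u := by
      have h1 := mem_cen.1 hug
      refine mem_cen.2 ?_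
      calc u * (g * y * g⁻¹) = g * ((g⁻¹ * u * g) * y) * g⁻¹ := by group
        _ = g * (y * (g⁻¹ * u * g)) * g⁻¹ := by rw [← h1]
        _ = g * y * g⁻¹ * u := by group
    rcases h.sizes.mem u hu1 with hu | hu
    swap
    · exact hg (hnil g _ (h.sizes.cen_nilpotent_bc h.ncb hp hup hu) hyu hgu)
    by_cases huR : u ∈ solRad G
    · have hL : ¬ Subgroup.normalClosure ({y} : Set G) ≤ solRad G := fun hle =>
        hyR (hle (Subgroup.subset_normalClosure rfl))
      have hDL := (h.le_or_solvable _).resolve_left hL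
      have hcen : Subgroup.normalClosure ({y} : Set G) ≤
          Subgroup.centralizer (solRad G : Set G) := by
        refine Subgroup.normalClosure_le_normal (Set.singleton_subset_iff.2 ?_)
        exact Subgroup.mem_centralizer_iff.2 fun w hw =>
          (mem_cen.1 (h.solRad_le_cen hy hw)).symm
      obtain ⟨d, hd, hd1⟩ := h.exists_ne_one
      have huD : u ∈ D := (h.isCC d hd hd1).le
        (mem_cen.2 (Subgroup.mem_centralizer_iff.1 (hcen (hDL hd)) u huR).symm)
      exact hu1 (h.eq_one_of_mem_D_solRad huD huR)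
    · have h3 := h.fix_eq hy hu huR (smul_mk_eq (g := (1 : G)) (by simpa using huy))
        (smul_mk_eq hug)
      refine hg ?_
      rw [QuotientGroup.eq, inv_one, one_mul] at h3
      exact h3
  have hne : cen y ≠ ⊥ := fun e => hy1 (Subgroup.mem_bot.1 (e ▸ self_mem_cen y))
  have hnt : cen y ≠ ⊤ := fun e => h.sizes.one_lt_a.ne' (hy.symm.trans (by rw [idx, e, Subgroup.index_top]))
  obtain ⟨K, hK, -, hc⟩ :=
    Induced.FrobeniusKernel.exists_frobeniusKernel_subgroup (H := cen y) ⟨hne, hnt, hTI⟩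
  haveI := hK
  haveI := h.sizes.cen_solvable h.ncb hy1
  haveI : Group.IsSolvable (G ⧸ K) := Group.isSolvable_of_surjective
    (f := (QuotientGroup.mk' K).comp (cen y).subtype) fun q => by
      induction q using QuotientGroup.induction_on with | _ g => ?_
      obtain ⟨⟨k, u⟩, hku⟩ := hc.2 g
      refine ⟨u, ?_⟩
      rw [← hku, MonoidHom.comp_apply, QuotientGroup.mk'_apply, QuotientGroup.mk_mul,
        (QuotientGroup.eq_one_iff (k : G)).2 k.2, one_mul]
      rfl
  have hDK := h.le_of_quotient_solvable (L := K) inferInstance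
  have hcard : Nat.card K = a := by
    have h1 := hc.card_mul
    rw [h.card_cen_a hy, ← h.card_mul] at h1
    exact Nat.eq_of_mul_eq_mul_right (by have := h.sizes.one_lt_c; omega) h1
  have heq : D = K := Subgroup.eq_of_le_of_card_ge hDK (by rw [hcard, h.card])
  haveI : D.Normal := heq ▸ hK
  exact h.radical_coprime (le_solRad (Group.isSolvable_of_comm fun s t =>
    Subtype.ext (h.comm s s.2 t t.2)))

end CCData

end Cfsg.Agent.Lib.RankThree72
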