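import Cfsg.Agent.Lib.RankThree72.Frob
import Cfsg.Agent.Lib.RankThree72.Antichain
import Cfsg.Agent.Lib.Frobenius.Nilpotent
import Cfsg.Agent.Lib.Cores.Basic
import Cfsg.Agent.Lib.ClassSizesFour21.Two

/-!
# All primary elements of size `a` inside the radical: preliminaries
-/

set_option autoImplicit false
set_option linter.style.haveILetI false

namespace Cfsg.Agent.Lib.RankThree72

open Cfsg.Agent.Lib.ClassSizes.Basic Cfsg.Agent.Lib.ClassSizes.CopTools
open Cfsg.Agent.Lib.PrimePowerClass.Radical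

universe u

variable {G : Type u} [Group G] [Finite G] {a b c : ℕ} {D : Subgroup G}

theorem mem_of_pow_coprime {H : Subgroup G} {x : G} {i : ℕ} (h : x ^ i ∈ H)
    (hcop : (orderOf x).Coprime i) : x ∈ H := by
  obtain ⟨m, hm⟩ := exists_pow_eq_self_of_coprime hcop.symm
  exact hm ▸ H.pow_mem h m

/-- The odd part of an element whose image is an involution has the same image, and can be made a
`2`-element. -/
theorem exists_twoPart {x : G} (R : Subgroup G) (hx : x ^ 2 ∈ R) (hxR : x ∉ R) :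
    ∃ y ∈ Subgroup.zpowers x, IsPEl 2 y ∧ y ∉ R ∧ y * y ∈ R := by
  obtain ⟨k, m, hm, hkm⟩ := Nat.exists_eq_pow_mul_and_not_dvd (orderOf_pos x).ne' 2 (by norm_num)
  obtain ⟨j, rfl⟩ : ∃ j, m = 2 * j + 1 := ⟨m / 2, by omega⟩
  refine ⟨x ^ (2 * j + 1), pow_mem (Subgroup.mem_zpowers x) _, ⟨k, ?_⟩, fun h => hxR ?_, ?_⟩
  · rw [← pow_mul, mul_comm, ← hkm, pow_orderOf_eq_one]
  · rw [pow_succ, pow_mul] at h
    exact (R.mul_mem_cancel_left (R.pow_mem hx j)).1 h
  · rw [← pow_add, show 2 * j + 1 + (2 * j + 1) = 2 * (2 * j + 1) by ring, pow_mul]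
    exact R.pow_mem hx _

theorem isPEl_zpowers {p : ℕ} (hp : p.Prime) {x y : G} (hx : IsPEl p x)
    (hy : y ∈ Subgroup.zpowers x) : IsPEl p y := by
  haveI := Fact.mk hp
  exact isPEl_of_mem (hx.isPGroup hp) hy

namespace CCData

theorem prime_cases (h : CCData G a b c D) {p : ℕ} (hp : p.Prime) (hpa : ¬ p ∣ a) {x : G}
    (hx : IsPEl p x) (hx1 : x ≠ 1) : idx x = a ∨ idx x = b := by
  rcases h.sizes.mem x hx1 with e | e | e
  · exact Or.inl e
  · exact Or.inr e
  · exact absurd ((h.prime_dvd_iff hp hx hx1).2 e) hpa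

theorem outer_b (h : CCData G a b c D) {p : ℕ} (hp : p.Prime) (hpa : ¬ p ∣ a) {x : G}
    (hx : IsPEl p x) (hxR : x ∉ solRad G) : idx x = b :=
  (h.prime_cases hp hpa hx fun e => hxR (e ▸ one_mem _)).resolve_left
    fun e => hxR (h.primary_mem_solRad hp hx e)

theorem solRad_ne_bot (h : CCData G a b c D) : solRad G ≠ ⊥ := by
  obtain ⟨p, y, hp, hyp, hy1, hy⟩ := h.sizes.exists_primary_a
  exact fun e => hy1 (Subgroup.mem_bot.1 (e ▸ h.primary_mem_solRad hp hyp hy))

/-- Nontrivial normal subgroups in the radical have their centralisers in it. -/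
theorem cent_le (h : CCData G a b c D) {M : Subgroup G} [M.Normal] (hM : M ≤ solRad G)
    (hne : M ≠ ⊥) : Subgroup.centralizer (M : Set G) ≤ solRad G := by
  refine (h.le_or_solvable _).resolve_right fun hD => ?_
  obtain ⟨d, hd, hd1⟩ := h.exists_ne_one
  refine hne ((Subgroup.eq_bot_iff_forall M).2 fun x hx => h.eq_one_of_mem_D_solRad ?_ (hM hx))
  exact (h.isCC d hd hd1).le (mem_cen.2 (Subgroup.mem_centralizer_iff.1 (hD hd) x hx).symm)

theorem commute_of_comm_mem (h : CCData G a b c D) {w d : G} (hd : d ∈ D)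
    (hw : w * d * w⁻¹ ∈ D) (hR : w ∈ solRad G) : Commute w d := by
  have h1 : w * d * w⁻¹ * d⁻¹ = 1 := h.eq_one_of_mem_D_solRad (D.mul_mem hw (D.inv_mem hd)) (by
    have : d * w⁻¹ * d⁻¹ ∈ solRad G := solRad_normal.conj_mem _ (inv_mem hR) d
    have h2 := mul_mem hR this
    simpa [mul_assoc] using h2)
  rw [mul_inv_eq_one, mul_inv_eq_iff_eq_mul] at h1
  exact h1

theorem fix_D (h : CCData G a b c D) {w d : G} (hd : d ∈ D) (hd1 : d ≠ 1) (hc : Commute w d) :
    w ∈ D :=
  (h.isCC d hd hd1).le (Subgroup.mem_centralizer_singleton_iff.2 hc.eq)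

theorem solRad_nilpotent (h : CCData G a b c D) : Group.IsNilpotent (solRad G) := by
  obtain ⟨l, hl, hla⟩ := Nat.exists_prime_and_dvd h.sizes.one_lt_a.ne'
  haveI := Fact.mk hl
  obtain ⟨d, hd, hd1, -, hdl⟩ := exists_pel_of_dvd hl (h.card.symm ▸ hla)
  have hfix : ∀ x : solRad G, d * (x : G) * d⁻¹ = x → x = 1 := fun x hx =>
    Subtype.ext (h.eq_one_of_mem_D_solRad
      (h.fix_D hd hd1 (mul_inv_eq_iff_eq_mul.1 hx).symm) x.2)
  refine Frobenius.Nilpotent.isNilpotent_of_orderOf (MulAut.conjNormal d : solRad G ≃* solRad G)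
    (fun x hx => hfix x (by
      have := congrArg Subtype.val hx
      simpa using this)) hl ?_
  refine orderOf_eq_prime ?_ ?_
  · rw [← map_pow, show d ^ l = 1 by rw [← hdl, pow_orderOf_eq_one], map_one]
  · intro e
    refine h.solRad_ne_bot ((Subgroup.eq_bot_iff_forall _).2 fun x hx => ?_)
    have h1 := congrArg (fun φ : MulAut (solRad G) => ((φ ⟨x, hx⟩ : solRad G) : G)) e
    simp only [MulAut.conjNormal_apply, MulAut.one_apply] at h1
    exact congrArg Subtype.val (hfix ⟨x, hx⟩ h1)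

theorem pCore_le (_h : CCData G a b c D) (p : ℕ) [Fact p.Prime] : Cfsg.pCore p G ≤ solRad G := by
  haveI := (Cores.pCore_isPGroup (G := G) p).isNilpotent
  exact le_solRad inferInstance

theorem mem_pCore (h : CCData G a b c D) {p : ℕ} [Fact p.Prime] {x : G} (hx : x ∈ solRad G)
    (hxp : IsPEl p x) : x ∈ Cfsg.pCore p G := by
  haveI := h.solRad_nilpotent
  exact ClassSizesFour21.mem_pCore_of_fitting (Cores.le_fittingSubgroup inferInstance hx) hxp

theorem pCore_commute {p q : ℕ} [Fact p.Prime] [Fact q.Prime] (hpq : p ≠ q) {x y : G}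
    (hx : x ∈ Cfsg.pCore p G) (hy : y ∈ Cfsg.pCore q G) : Commute x y := by
  refine Subgroup.commute_of_normal_of_disjoint _ _ inferInstance inferInstance ?_ x y hx hy
  rw [disjoint_iff, Subgroup.eq_bot_iff_forall]
  rintro z ⟨hz1, hz2⟩
  by_contra hz
  exact hpq (pel_prime_unique Fact.out Fact.out (isPEl_of_mem (Cores.pCore_isPGroup p) hz1)
    (isPEl_of_mem (Cores.pCore_isPGroup q) hz2) hz)

theorem b_ne_zero (h : CCData G a b c D) : b ≠ 0 := by
  have := h.sizes.lt
  omega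

theorem card_cen_b (h : CCData G a b c D) {x y : G} (hx : idx x = b) (hy : idx y = b) :
    Nat.card (cen x) = Nat.card (cen y) := by
  have := h.b_ne_zero
  exact card_cen_eq_of_idx (hx.trans hy.symm)

theorem solvable_of_two (h : CCData G a b c D)
    (hall : ∀ x : G, IsPEl 2 x → x ∈ solRad G) : False := by
  haveI := solRad_isSolvable (G := G)
  haveI : Group.IsSolvable (G ⧸ solRad G) := OddOrder.FeitThompson.isSolvable_of_odd_card (by
    rw [← Subgroup.index_eq_card, Nat.odd_iff, ← Nat.two_dvd_ne_zero]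
    intro hd
    obtain ⟨x, hx, hxR⟩ := exists_pel_dvd_index Nat.prime_two hd
    exact hxR (hall x hx))
  exact h.sizes.notSolv (Group.isSolvable_of_ker_le_range (solRad G).subtype
    (QuotientGroup.mk' (solRad G)) (by rw [QuotientGroup.ker_mk', Subgroup.range_subtype]))

theorem two_dvd_card (h : CCData G a b c D) : 2 ∣ Nat.card G := by
  by_contra hd
  exact h.sizes.notSolv (OddOrder.FeitThompson.isSolvable_of_odd_card (Nat.not_even_iff_odd.1
    fun he => hd (even_iff_two_dvd.1 he)))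

/-- The Sylow `2`-subgroups do not lie in `D`. -/
theorem two_not_dvd (h : CCData G a b c D) : ¬ 2 ∣ a := by
  intro h2
  haveI : Fact (Nat.Prime 2) := ⟨Nat.prime_two⟩
  obtain ⟨i, hiD, hi1, -, hio⟩ := exists_pel_of_dvd Nat.prime_two (h.card.symm ▸ h2)
  by_cases huniq : ∀ j ∈ D, orderOf j = 2 → j = i
  · obtain ⟨w, hwN, -, hwD⟩ := h.exists_normalizer (M := ⊤) le_top fun hs' => h.sizes.notSolv
      (Group.isSolvable_of_isSolvable_injective (f := (Subgroup.topEquiv (G := G)).symm.toMonoidHom)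
        (Subgroup.topEquiv (G := G)).symm.injective)
    have h1 : w * i * w⁻¹ = i := huniq _ ((Subgroup.mem_normalizer_iff.1 hwN i).1 hiD)
      (by rw [Involutions.Basic.orderOf_conj_eq, hio])
    exact hwD (h.fix_D hiD hi1 (mul_inv_eq_iff_eq_mul.1 h1))
  push Not at huniq
  obtain ⟨j, hjD, hjo, hji⟩ := huniq
  obtain ⟨E, hEn, hE1, hER, hEc⟩ := exists_abelian_normal_le solRad_isSolvable h.solRad_ne_bot
  haveI := hEn
  obtain ⟨w, hw, e, he, he1, hc⟩ := Antichain.exists_fixed_four hE1 hio hjo hEc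
  have hwD : w ∈ D ∧ w ≠ 1 := by
    rcases hw with rfl | rfl | rfl
    · exact ⟨hiD, hi1⟩
    · exact ⟨hjD, Involutions.Basic.invol_ne_one hjo⟩
    · exact ⟨D.mul_mem hiD hjD, fun e => hji (by
        rw [mul_eq_one_iff_eq_inv, Involutions.Basic.invol_inv hjo] at e; exact e.symm)⟩
  exact he1 (h.eq_one_of_mem_D_solRad (h.fix_D hwD.1 hwD.2 hc.symm) (hER he))

/-- The largest size is even. -/
theorem two_dvd_b (h : CCData G a b c D) : 2 ∣ b := by
  by_contra h2b
  haveI : Fact (Nat.Prime 2) := ⟨Nat.prime_two⟩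
  have key : CentralTwoElements.AllCentral G := by
    rintro x ⟨k, hk⟩
    rcases eq_or_ne x 1 with rfl | hx1
    · exact ⟨(inferInstance : Nonempty (Sylow 2 G)).some, fun g _ => mem_cen.2 (by simp)⟩
    refine ClassSizesFour21.exists_sylow_cen ?_
    rcases h.prime_cases Nat.prime_two h.two_not_dvd (isPEl_of_orderOf hk) hx1 with e | e
    · rw [e]; exact h.two_not_dvd
    · rw [e]; exact h2b
  obtain ⟨T⟩ := (inferInstance : Nonempty (Sylow 2 G))
  by_cases hA : Cfsg.pCore 2 G = ⊥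
  swap
  · refine h.solvable_of_two fun x hx => h.cent_le (h.pCore_le 2) hA ?_
    obtain ⟨S, hS⟩ := (hx.isPGroup Nat.prime_two).exists_le_sylow
    haveI := CentralTwoElements.isMulCommutative key S
    exact Subgroup.mem_centralizer_iff.2 fun y hy =>
      setLike_mul_comm (Cores.pCore_le_sylow S hy) (hS (Subgroup.mem_zpowers x))
  haveI := CentralTwoElements.isMulCommutative key T
  obtain ⟨u, huT, v, hvT, hu, hv, huv⟩ := Antichain.exists_two_invol T inferInstance h.sizes.notSolv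
  obtain ⟨E, hEn, hE1, hER, hEc⟩ := exists_abelian_normal_le solRad_isSolvable h.solRad_ne_bot
  haveI := hEn
  have hout : ∀ x : G, IsPEl 2 x → x ≠ 1 → x ∉ solRad G := fun x hx hx1 hxR =>
    hx1 (Subgroup.mem_bot.1 (hA ▸ h.mem_pCore hxR hx))
  have hodd : Odd (Nat.card E) := by
    rw [Nat.odd_iff, ← Nat.two_dvd_ne_zero]
    intro hd
    obtain ⟨x, hxE, hx1, hx2, -⟩ := exists_pel_of_dvd Nat.prime_two hd
    exact hout x hx2 hx1 (hER hxE)
  have hcopE : ∀ {x e : G}, IsPEl 2 x → e ∈ E → (orderOf x).Coprime (orderOf e) := by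
    intro x e hx he
    obtain ⟨k, hk⟩ := pel_orderOf Nat.prime_two hx
    rw [hk]
    exact Nat.Coprime.pow_left k ((Nat.prime_two.coprime_iff_not_dvd).2 fun hd =>
      hodd.not_two_dvd_nat (hd.trans (Subgroup.orderOf_dvd_natCard E he)))
  have hT2 : ∀ {x : G}, x ∈ (T : Subgroup G) → IsPEl 2 x := fun hx => isPEl_of_mem T.2 hx
  have hfix : ∀ {x w e : G}, x ∈ (T : Subgroup G) → x ≠ 1 → w ∈ (T : Subgroup G) → e ∈ E →
      Commute x e → Commute w e := by
    intro x w e hx hx1 hw he hc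
    have h1 := h.sizes.cen_le_b (h.outer_b Nat.prime_two h.two_not_dvd (hT2 hx)
      (hout x (hT2 hx) hx1)) (mem_cen.2 hc.eq) (hcopE (hT2 hx) he)
    exact (show Commute e w from mem_cen.1 (h1 (mem_cen.2 (setLike_mul_comm hx hw)))).symm
  have huv1 : u * v ≠ 1 := fun e => huv (by
    rw [mul_eq_one_iff_eq_inv, Involutions.Basic.invol_inv hv] at e; exact e)
  have hfour := four_fix hEc hodd (s := u) (t := v) (setLike_mul_comm huT hvT)
    (fun e _ => by rw [Involutions.Basic.invol_mul_self hu]; exact Commute.one_left e)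
    (fun e _ => by rw [Involutions.Basic.invol_mul_self hv]; exact Commute.one_left e)
    (fun e he hc => hfix huT (Involutions.Basic.invol_ne_one hu) hvT he hc)
    (fun e he hc => hfix hvT (Involutions.Basic.invol_ne_one hv) huT he hc)
    (fun e he hc => hfix (Subgroup.mul_mem _ huT hvT) huv1 hvT he hc)
  exact hout u (hT2 huT) (Involutions.Basic.invol_ne_one hu)
    (h.cent_le hER hE1 (Subgroup.mem_centralizer_iff.2 fun e he => (hfour e he).eq.symm))

theorem exists_central_two (h : CCData G a b c D) :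
    ∃ z ∈ Cfsg.pCore 2 G, z ≠ 1 ∧ IsPEl 2 z ∧ solRad G ≤ cen z := by
  haveI : Fact (Nat.Prime 2) := ⟨Nat.prime_two⟩
  obtain ⟨T⟩ := (inferInstance : Nonempty (Sylow 2 G))
  obtain ⟨z, -, hz1, hz2, hTz⟩ := exists_central T h.two_dvd_card
  have ha : idx z = a := (h.prime_cases Nat.prime_two h.two_not_dvd hz2 hz1).resolve_right
    fun e => not_dvd_idx_of_le T hTz (e ▸ h.two_dvd_b)
  exact ⟨z, h.mem_pCore (h.primary_mem_solRad Nat.prime_two hz2 ha) hz2, hz1, hz2,
    h.solRad_le_cen ha⟩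

/-- An outer `2`-element never commutes with an outer element of odd prime power order prime to
`a`. -/
theorem no_mix (h : CCData G a b c D) {q : ℕ} (hq : q.Prime) (hq2 : q ≠ 2) (hqa : ¬ q ∣ a)
    {t u : G} (ht : IsPEl 2 t) (htR : t ∉ solRad G) (hu : IsPEl q u) (huR : u ∉ solRad G) :
    ¬ Commute t u := by
  intro hcomm
  -- a power of `t` squaring into the radical
  obtain ⟨k, hk⟩ := ht
  have hex : ∃ m, t ^ 2 ^ m ∈ solRad G := ⟨k, hk ▸ one_mem _⟩
  classical
  obtain ⟨m, hm⟩ := Nat.exists_eq_succ_of_ne_zero (show Nat.find hex ≠ 0 from fun e => htR (by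
    simpa [e] using Nat.find_spec hex))
  obtain ⟨s, hs⟩ : ∃ s, s = t ^ 2 ^ m := ⟨_, rfl⟩
  have hsR : s ∉ solRad G := hs ▸ Nat.find_min hex (by omega)
  have hssR : s * s ∈ solRad G := by
    rw [hs, ← pow_add, show 2 ^ m + 2 ^ m = 2 ^ (m + 1) by ring]
    have h2 := Nat.find_spec hex
    rw [hm] at h2
    exact h2
  have hs2 : IsPEl 2 s := ⟨k, by rw [hs, ← pow_mul, mul_comm, pow_mul, hk, one_pow]⟩
  have hsu : Commute s u := hs ▸ hcomm.pow_left _
  have hsb := h.outer_b Nat.prime_two h.two_not_dvd hs2 hsR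
  have hub := h.outer_b hq hqa hu huR
  have hsu' := h.sizes.cen_le_b hsb (mem_cen.2 hsu.eq)
    (hs2.coprime_orderOf Nat.prime_two hq (Ne.symm hq2) hu)
  have hus' := h.sizes.cen_le_b hub (mem_cen.2 hsu.eq.symm)
    (hu.coprime_orderOf hq Nat.prime_two hq2 hs2)
  -- the involutions of the centre of the radical
  haveI : Fact (Nat.Prime 2) := ⟨Nat.prime_two⟩
  set M : Subgroup G :=
    { carrier := {x | x ∈ solRad G ∧ x ∈ Subgroup.centralizer (solRad G : Set G) ∧ x * x = 1}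
      mul_mem' := by
        rintro x y ⟨hx, hxc, hxx⟩ ⟨hy, hyc, hyy⟩
        refine ⟨mul_mem hx hy, mul_mem hxc hyc, ?_⟩
        have := Subgroup.mem_centralizer_iff.1 hxc y hy
        calc x * y * (x * y) = x * (y * x) * y := by group
          _ = x * (x * y) * y := by rw [this]
          _ = (x * x) * (y * y) := by group
          _ = 1 := by rw [hxx, hyy, mul_one]
      one_mem' := ⟨one_mem _, one_mem _, mul_one 1⟩
      inv_mem' := by
        rintro x ⟨hx, hxc, hxx⟩
        exact ⟨inv_mem hx, inv_mem hxc, by rw [← mul_inv_rev, hxx, inv_one]⟩ } with hM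
  haveI : M.Normal := ⟨by
    rintro x ⟨hx, hxc, hxx⟩ g
    refine ⟨solRad_normal.conj_mem x hx g,
      (inferInstance : (Subgroup.centralizer (solRad G : Set G)).Normal).conj_mem x hxc g, ?_⟩
    calc g * x * g⁻¹ * (g * x * g⁻¹) = g * (x * x) * g⁻¹ := by group
      _ = 1 := by rw [hxx, mul_one, mul_inv_cancel]⟩
  have hM1 : M ≠ ⊥ := by
    obtain ⟨z, hz, hz1, hz2, hzR⟩ := h.exists_central_two
    obtain ⟨j, hj⟩ := pel_orderOf Nat.prime_two hz2
    rcases j with _ | j
    · exact absurd (orderOf_eq_one_iff.1 (hj.trans (pow_zero 2))) hz1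
    intro e
    have hzc : z ∈ Subgroup.centralizer (solRad G : Set G) := Subgroup.mem_centralizer_iff.2
      fun r hr => (mem_cen.1 (hzR hr)).symm
    have hmem : z ^ 2 ^ j ∈ M := ⟨pow_mem (h.pCore_le 2 hz) _, pow_mem hzc _, by
      rw [← pow_add, ← two_mul, ← pow_succ', ← hj, pow_orderOf_eq_one]⟩
    rw [e, Subgroup.mem_bot] at hmem
    have := orderOf_dvd_of_pow_eq_one hmem
    rw [hj] at this
    have := Nat.le_of_dvd (Nat.two_pow_pos j) this
    rw [pow_succ] at this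
    have := Nat.two_pow_pos j
    omega
  have hMn : M.Normal := inferInstance
  refine huR (h.cent_le (M := M) (fun x hx => hx.1) hM1 (Subgroup.mem_centralizer_iff.2 fun x hx => ?_))
  -- `u` centralises every element of `M`
  have hcomM : ∀ {x y : G}, x ∈ M → y ∈ M → Commute x y := fun hx hy =>
    (Subgroup.mem_centralizer_iff.1 hy.2.1 _ hx.1)
  have hinv : ∀ {x : G}, x ∈ M → x⁻¹ = x := fun hx => inv_eq_of_mul_eq_one_right hx.2.2
  have hfixu : ∀ {x : G}, x ∈ M → s * x * s⁻¹ = x → u * x * u⁻¹ = x := by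
    intro x _ hsx
    have h1 : x ∈ cen s := mem_cen.2 (mul_inv_eq_iff_eq_mul.1 hsx)
    rw [show u * x = x * u from mem_cen.1 (hsu' h1), mul_inv_cancel_right]
  have hfs : ∀ {y : G}, y ∈ M → s * (y⁻¹ * (s * y * s⁻¹)) * s⁻¹ = y⁻¹ * (s * y * s⁻¹) := by
    intro y hy
    have hsq : s * s * y = y * (s * s) := Subgroup.mem_centralizer_iff.1 hy.2.1 _ hssR
    have hsy : s * y * s⁻¹ ∈ M := hMn.conj_mem y hy s
    calc s * (y⁻¹ * (s * y * s⁻¹)) * s⁻¹
        = (s * y * s⁻¹)⁻¹ * ((s * s) * y * (s * s)⁻¹) := by group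
      _ = (s * y * s⁻¹) * y⁻¹ := by rw [hsq, mul_inv_cancel_right, hinv hsy, hinv hy]
      _ = y⁻¹ * (s * y * s⁻¹) := (hcomM hsy (M.inv_mem hy)).eq
  obtain ⟨g, hg⟩ : ∃ g, g = x⁻¹ * (u * x * u⁻¹) := ⟨_, rfl⟩
  have hgM : g ∈ M := hg ▸ M.mul_mem (M.inv_mem hx) (hMn.conj_mem x hx u)
  obtain ⟨f, hf⟩ : ∃ f, f = x⁻¹ * (s * x * s⁻¹) := ⟨_, rfl⟩
  have hfM : f ∈ M := hf ▸ M.mul_mem (M.inv_mem hx) (hMn.conj_mem x hx s)
  have hfu : u * f * u⁻¹ = f := hfixu hfM (hf ▸ hfs hx)
  have hsg : s * g * s⁻¹ = g := by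
    have e1 : s * x * s⁻¹ = x * f := by rw [hf, mul_inv_cancel_left]
    have e2 : s * (u * x * u⁻¹) * s⁻¹ = u * (s * x * s⁻¹) * u⁻¹ := by
      calc s * (u * x * u⁻¹) * s⁻¹ = (s * u) * x * (s * u)⁻¹ := by group
        _ = (u * s) * x * (u * s)⁻¹ := by rw [hsu.eq]
        _ = u * (s * x * s⁻¹) * u⁻¹ := by group
    calc s * g * s⁻¹ = (s * x * s⁻¹)⁻¹ * (s * (u * x * u⁻¹) * s⁻¹) := by rw [hg]; group
      _ = (x * f)⁻¹ * (u * (x * f) * u⁻¹) := by rw [e2, e1]
      _ = f⁻¹ * (g * (u * f * u⁻¹)) := by rw [hg]; group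
      _ = g := by rw [hfu, (hcomM hgM hfM).eq, inv_mul_cancel_left]
  have hug : u * g * u⁻¹ = g := hfixu hgM hsg
  have hpow : ∀ n : ℕ, u ^ n * x * (u ^ n)⁻¹ = x * g ^ n := by
    intro n
    induction n with
    | zero => simp
    | succ n ih =>
      calc u ^ (n + 1) * x * (u ^ (n + 1))⁻¹ = u * (u ^ n * x * (u ^ n)⁻¹) * u⁻¹ := by
            rw [pow_succ']; group
        _ = (u * x * u⁻¹) * (u * g * u⁻¹) ^ n := by rw [ih, conj_pow]; group
        _ = x * g ^ (n + 1) := by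
          rw [hug, pow_succ', ← mul_assoc, show u * x * u⁻¹ = x * g by rw [hg, mul_inv_cancel_left]]
  have hgo : g ^ orderOf u = 1 := by
    have h1 := hpow (orderOf u)
    rw [pow_orderOf_eq_one, one_mul, inv_one, mul_one] at h1
    exact mul_left_cancel (h1.symm.trans (mul_one x).symm)
  have hg1 : g = 1 := by
    obtain ⟨i, hi⟩ := pel_orderOf hq hu
    rw [hi] at hgo
    have h1 := Nat.dvd_gcd (orderOf_dvd_of_pow_eq_one hgo)
      (orderOf_dvd_of_pow_eq_one (show g ^ 2 = 1 by rw [pow_two]; exact hgM.2.2))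
    rw [(Nat.Coprime.pow_left i ((Nat.coprime_primes hq Nat.prime_two).2 hq2)).gcd_eq_one] at h1
    exact orderOf_eq_one_iff.1 (Nat.dvd_one.1 h1)
  exact mul_inv_eq_iff_eq_mul.1 (inv_mul_eq_one.1 (hg ▸ hg1)).symm |>.symm

/-- An odd prime prime to `a` acts outside the radical. -/
theorem exists_outer_odd (h : CCData G a b c D) :
    ∃ (q : ℕ) (u : G), q.Prime ∧ q ≠ 2 ∧ ¬ q ∣ a ∧ IsPEl q u ∧ u ∉ solRad G := by
  by_contra hcon
  push Not at hcon
  haveI := solRad_isSolvable (G := G)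
  haveI : Fact (Nat.Prime 2) := ⟨Nat.prime_two⟩
  set R := solRad G with hR
  set Q := G ⧸ R with hQ
  have h0 : R.index ≠ 0 := Subgroup.index_ne_zero_of_finite
  obtain ⟨j, t, h2t, hjt⟩ := Nat.exists_eq_pow_mul_and_not_dvd h0 2 (by norm_num)
  have hdvd : R.index ∣ a * c := h.card_mul ▸ Subgroup.index_dvd_card R
  have hta : t = a := by
    refine Nat.dvd_antisymm ?_ ?_
    · refine Nat.Coprime.dvd_of_dvd_mul_right (Nat.coprime_of_dvd fun p hp hpt hpc => ?_)
        ((Dvd.intro_left _ hjt.symm).trans hdvd)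
      obtain ⟨x, hx, hxR⟩ := exists_pel_dvd_index hp (hjt ▸ hpt.mul_left _)
      refine hxR (hcon p x hp (fun e => h2t (e ▸ hpt)) (fun hpa => ?_) hx)
      exact hp.ne_one (Nat.eq_one_of_dvd_coprimes h.sizes.cop hpa hpc)
    · have h1 : a ∣ R.index := h.solRad_coprime.symm.dvd_of_dvd_mul_left
        (R.card_mul_index ▸ h.card_mul ▸ dvd_mul_right a c)
      rw [hjt] at h1
      exact (Nat.Coprime.pow_right j ((Nat.prime_two.coprime_iff_not_dvd.2 h.two_not_dvd)).symm).dvd_of_dvd_mul_left h1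
  have hDQ : Nat.card (D.map (QuotientGroup.mk' R)) = a := by
    rw [Nat.card_congr (Equiv.ofBijective (fun d : D => (⟨_, Subgroup.mem_map_of_mem _ d.2⟩ :
      D.map (QuotientGroup.mk' R))) ⟨fun x y e => ?_, fun ⟨_, d, hd, rfl⟩ => ⟨⟨d, hd⟩, rfl⟩⟩).symm,
      h.card]
    have h1 : ((x : G) : G ⧸ R) = ((y : G) : G ⧸ R) := congrArg Subtype.val e
    rw [QuotientGroup.eq] at h1
    exact Subtype.ext (inv_mul_eq_one.1 (h.eq_one_of_mem_D_solRad (D.mul_mem (D.inv_mem x.2) y.2) h1))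
  obtain ⟨P⟩ := (inferInstance : Nonempty (Sylow 2 Q))
  have hcardQ : Nat.card Q = 2 ^ j * a := by
    rw [hQ, ← Subgroup.index_eq_card, hjt, hta]
  have hP : Nat.card P = 2 ^ j := by
    rw [P.card_eq_multiplicity, hcardQ, Nat.factorization_mul (by positivity)
      (by have := h.sizes.one_lt_a; omega), Finsupp.add_apply,
      Nat.factorization_eq_zero_of_not_dvd h.two_not_dvd, add_zero,
      Nat.prime_two.factorization_pow, Finsupp.single_eq_same]
  have hc : Subgroup.IsComplement' (D.map (QuotientGroup.mk' R)) (P : Subgroup Q) :=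
    Subgroup.isComplement'_of_coprime (by rw [hDQ, hP, hcardQ, mul_comm])
      (by rw [hDQ, hP]; exact ((Nat.prime_two.coprime_iff_not_dvd.2 h.two_not_dvd).pow_left j).symm)
  haveI : Group.IsNilpotent (D.map (QuotientGroup.mk' R)) := by
    refine isNilpotent_of_primary fun p q x y _ _ _ hx hy _ _ => ?_
    obtain ⟨x', hx', rfl⟩ := hx
    obtain ⟨y', hy', rfl⟩ := hy
    rw [← map_mul, ← map_mul, h.comm x' hx' y' hy']
  haveI : Group.IsSolvable Q := KegelWielandt.isSolvable (A := D.map (QuotientGroup.mk' R))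
    (B := (P : Subgroup Q)) inferInstance P.2.isNilpotent fun g => by
      obtain ⟨⟨y, z⟩, hyz⟩ := hc.2 g
      exact ⟨y, y.2, z, z.2, hyz.symm⟩
  exact h.sizes.notSolv (Group.isSolvable_of_ker_le_range R.subtype
    (QuotientGroup.mk' R) (by rw [QuotientGroup.ker_mk', Subgroup.range_subtype]))

end CCData

end Cfsg.Agent.Lib.RankThree72
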