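import Cfsg.Agent.Lib.RankThree72.Antichain
import Cfsg.Agent.Lib.RankThree72.Final

/-!
# Trivial centre and at most three class sizes above one
-/

set_option autoImplicit false
set_option linter.style.haveILetI false

namespace Cfsg.Agent.Lib.RankThree72

open Cfsg.Agent.Lib.ClassSizes.Basic Cfsg.Agent.Lib.ClassSizes.CopTools

universe u

variable {G : Type u} [Group G] [Finite G]

theorem solvable_or_psl_two (hZ : Subgroup.center G = ⊥)
    (h : Nat.card {n : ℕ | 1 < n ∧ ∃ x : G, idx x = n} ≤ 3) :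
    Group.IsSolvable G ∨ ∃ a : ℕ, 0 < a ∧
      Nonempty (G ≃* Matrix.ProjectiveSpecialLinearGroup (Fin 2) (GaloisField 2 a)) := by
  haveI : Fact (Nat.Prime 2) := ⟨Nat.prime_two⟩
  by_cases hs : Group.IsSolvable G
  · exact Or.inl hs
  by_cases hA : Antichain G
  · exact Or.inr (Antichain.main hA hs)
  exfalso
  have hgt : ∀ x : G, x ≠ 1 → 1 < idx x := fun x hx => by
    have h0 : idx x ≠ 0 := Subgroup.index_ne_zero_of_finite
    have h1 : idx x ≠ 1 := fun e => hx (Subgroup.mem_bot.1 (hZ ▸ ClassSizesFour21.idx_one_iff.1 e))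
    omega
  simp only [Antichain] at hA
  push Not at hA
  obtain ⟨x, y, hx, hy, hdvd, hne⟩ := hA
  have hlt : idx x < idx y :=
    lt_of_le_of_ne (Nat.le_of_dvd ((hgt y hy).trans_le' zero_le_one) hdvd) hne
  have hfin : {n : ℕ | 1 < n ∧ ∃ x : G, idx x = n}.Finite :=
    (Set.finite_range fun x : G => idx x).subset fun n ⟨_, x, hx⟩ => ⟨x, hx⟩
  have central : ∀ p : ℕ, p.Prime → p ∣ idx x →
      ∃ z : G, z ≠ 1 ∧ ¬ p ∣ idx z := by
    intro p hp hpx
    haveI := Fact.mk hp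
    obtain ⟨P⟩ := (inferInstance : Nonempty (Sylow p G))
    obtain ⟨z, -, hz1, -, hPz⟩ :=
      exists_central P (hpx.trans (Dvd.intro_left _ (card_cen_mul_idx x)))
    exact ⟨z, hz1, not_dvd_idx_of_le P hPz⟩
  obtain ⟨p, hp, hpx⟩ := Nat.exists_prime_and_dvd (hgt x hx).ne'
  obtain ⟨z, hz1, hz⟩ := central p hp hpx
  have hxz : idx z ≠ idx x := fun e => hz (e ▸ hpx)
  have hyz : idx z ≠ idx y := fun e => hz (e ▸ hpx.trans hdvd)
  have hmem : ∀ w : G, w ≠ 1 → idx w = idx x ∨ idx w = idx y ∨ idx w = idx z := by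
    intro w hw
    by_contra hcon
    push Not at hcon
    obtain ⟨h1, h2, h3⟩ := hcon
    have hsub : ({idx x, idx y, idx z, idx w} : Set ℕ) ⊆ {n : ℕ | 1 < n ∧ ∃ x : G, idx x = n} := by
      rintro n (rfl | rfl | rfl | rfl)
      exacts [⟨hgt x hx, x, rfl⟩, ⟨hgt y hy, y, rfl⟩, ⟨hgt z hz1, z, rfl⟩, ⟨hgt w hw, w, rfl⟩]
    have h4 := Set.ncard_le_ncard hsub hfin
    rw [Nat.card_coe_set_eq] at h
    rw [Set.ncard_insert_of_notMem (by simp [hne, hxz.symm, h1.symm]) (Set.toFinite _),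
      Set.ncard_insert_of_notMem (by simp [hyz.symm, h2.symm]) (Set.toFinite _),
      Set.ncard_pair (Ne.symm h3)] at h4
    omega
  have hcop : (idx x).Coprime (idx z) := Nat.coprime_of_dvd fun q hq h1 h2 => by
    obtain ⟨w, hw1, hw⟩ := central q hq h1
    rcases hmem w hw1 with e | e | e <;> rw [e] at hw
    exacts [hw h1, hw (h1.trans hdvd), hw h2]
  have S : Sizes G (idx x) (idx y) (idx z) :=
    ⟨hZ, hs, hmem, hdvd, hlt, hcop, hgt x hx, hgt z hz1, hyz.symm, ⟨x, rfl⟩, ⟨y, rfl⟩, ⟨z, rfl⟩⟩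
  by_cases hzy : idx z ∣ idx y
  · exact S.double_false hzy
  · obtain ⟨D, hD⟩ := exists_ccData S hzy
    exact hD.contradiction'

end Cfsg.Agent.Lib.RankThree72
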