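import Cfsg.Agent.Lib.RankThree72.Double
import Cfsg.Agent.Lib.KegelWielandt.Main
import Cfsg.Agent.Lib.CNGroup.EvenTI
import Cfsg.Agent.Lib.PrimePowerClass.Basic
import Cfsg.Agent.Lib.CentralTwoElements
import Cfsg.Agent.Lib.CNGroup.Solvable
import Cfsg.Agent.Lib.Involutions.Basic
import Cfsg.Agent.Lib.OddOrder.FeitThompson
import Cfsg.Agent.S4033

/-!
# Three class sizes `a, b, c` with `a ∣ b` and `c ∤ b`: centralisers are solvable
-/

set_option autoImplicit false
set_option linter.style.haveILetI false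

namespace Cfsg.Agent.Lib.RankThree72

open Cfsg.Agent.Lib.ClassSizes.Basic Cfsg.Agent.Lib.ClassSizes.CopTools
open Cfsg.Agent.Lib.PrimePowerClass.Radical

universe u

variable {G : Type u} [Group G] [Finite G] {a b c : ℕ}

theorem conj_idx' (g x : G) : idx (g * x * g⁻¹) = idx x := ClassSizesFour21.conj_idx g x

theorem exists_pel_dvd_index {H : Subgroup G} {p : ℕ} (hp : p.Prime) (h : p ∣ H.index) :
    ∃ x : G, IsPEl p x ∧ x ∉ H := by
  haveI := Fact.mk hp
  by_contra hcon
  push Not at hcon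
  obtain ⟨P⟩ := (inferInstance : Nonempty (Sylow p G))
  exact P.not_dvd_index (h.trans (Subgroup.index_dvd_of_le fun x hx => hcon x (isPEl_of_mem P.2 hx)))

/-- With all elements of prime order outside two primes in the radical, the group is solvable. -/
theorem solvable_of_two_primes {s q : ℕ} (hs : s.Prime) (hq : q.Prime)
    (h : ∀ (p : ℕ) (x : G), p.Prime → p ≠ s → p ≠ q → IsPEl p x → x ∈ solRad G) :
    Group.IsSolvable G := by
  haveI := solRad_isSolvable (G := G)
  have h0 : (solRad G).index ≠ 0 := Subgroup.index_ne_zero_of_finite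
  obtain ⟨i, t, hst, hit⟩ := Nat.exists_eq_pow_mul_and_not_dvd h0 s hs.ne_one
  have ht0 : t ≠ 0 := fun e => hst (e ▸ dvd_zero s)
  have htq : t = q ^ t.primeFactorsList.length := Nat.eq_prime_pow_of_unique_prime_dvd ht0
    fun {p} hp hpt => by
      by_contra hpq
      obtain ⟨x, hxp, hx⟩ := exists_pel_dvd_index hp (hit ▸ hpt.mul_left _)
      exact hx (h p x hp (fun e => hst (e ▸ hpt)) hpq hxp)
  haveI : Group.IsSolvable (G ⧸ solRad G) :=
    Induced.Burnside.isSolvable_of_card_eq s q i t.primeFactorsList.length hs hq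
      (by rw [← Subgroup.index_eq_card, ← htq, hit])
  exact Group.isSolvable_of_ker_le_range (solRad G).subtype (QuotientGroup.mk' (solRad G))
    (by rw [QuotientGroup.ker_mk', Subgroup.range_subtype])

/-- A subgroup of index prime to `p` sees every `p`-element up to conjugation. -/
theorem forall_pel_of_index {H : Subgroup G} {p : ℕ} [Fact p.Prime] (hH : ¬ p ∣ H.index)
    {R : Subgroup G} [R.Normal] (h : ∀ x ∈ H, IsPEl p x → x ∈ R) : ∀ x : G, IsPEl p x → x ∈ R := by
  intro x hx
  obtain ⟨S⟩ := (inferInstance : Nonempty (Sylow p H))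
  have hi : ¬ p ∣ ((S : Subgroup H).map H.subtype).index := by
    rw [Subgroup.index_map_subtype]
    intro hd
    rcases (Fact.out : p.Prime).dvd_mul.1 hd with h1 | h1
    · exact S.not_dvd_index h1
    · exact hH h1
  obtain ⟨g, hg⟩ := ClassSizesFour21.exists_conj_mem hx ((S.2.map H.subtype).toSylow hi)
  have hmem : g * x * g⁻¹ ∈ R := by
    obtain ⟨y, -, hy⟩ := hg
    refine h _ ?_ (ClassSizesFour21.conj_isPEl hx g)
    rw [← hy]
    exact y.2
  have := (inferInstance : R.Normal).conj_mem _ hmem g⁻¹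
  simpa [mul_assoc] using this

namespace Sizes

/-- A `c`-element absorbs what it commutes with coprimely, as `c ∤ b`. -/
theorem cen_le_c (S : Sizes G a b c) (hcb : ¬ c ∣ b) {x v : G} (hx : idx x = c) (hv : v ∈ cen x)
    (hcop : (orderOf x).Coprime (orderOf v)) : cen x ≤ cen v := by
  have e := cen_mul hv hcop
  have hd : c ∣ idx (x * v) := hx ▸ Subgroup.index_dvd_of_le (e.le.trans inf_le_left)
  have hne : x * v ≠ 1 := by
    intro h
    rw [h, ClassSizesFour21.idx_one_iff.2 (one_mem _)] at hd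
    exact absurd (Nat.dvd_one.1 hd) S.one_lt_c.ne'
  have hi : idx (x * v) = c := by
    rcases S.mem _ hne with h | h | h
    · exact absurd (h ▸ hd) S.not_c_dvd_a
    · exact absurd (h ▸ hd) hcb
    · exact h
  rw [← cen_eq_of_idx (e.le.trans inf_le_left) (hi.trans hx.symm), e]
  exact inf_le_right

theorem cen_nilpotent_bc (S : Sizes G a b c) (hcb : ¬ c ∣ b) {s : ℕ} (hs : s.Prime) {x : G}
    (hxs : IsPEl s x) (hx : idx x = b ∨ idx x = c) : Group.IsNilpotent (cen x) := by
  refine isNilpotent_of_primary fun p q u v hp hq hpq hu hv hup hvq => ?_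
  rcases hx with hx | hx
  · exact S.commute_b hp hq hpq hs hxs hx hu hv hup hvq
  · by_cases hps : p = s
    · exact (mem_cen.1 (S.cen_le_c hcb hx hv
        (hxs.coprime_orderOf hs hq (fun e => hpq (hps.trans e)) hvq) hu)).symm
    · exact mem_cen.1 (S.cen_le_c hcb hx hu (hxs.coprime_orderOf hs hp (Ne.symm hps) hup) hv)

/-- The three possible shapes of the centraliser of an `r`-element `u` of size `a`. -/
theorem cen_a_cases (S : Sizes G a b c) {r : ℕ} (hr : r.Prime) {u : G} (hur : IsPEl r u)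
    (hu : idx u = a) :
    (∀ v ∈ cen u, (orderOf v).Coprime r → cen u ≤ cen v) ∨
    (∃ (H : Subgroup (cen u)) (k : ℕ), IsMulCommutative H ∧ ¬ r ∣ Nat.card H ∧ H.index = r ^ k) ∨
    (∃ (q : ℕ) (N A : Subgroup (cen u)) (i j : ℕ), q.Prime ∧ A ≤ Subgroup.center (cen u) ∧
      N.Normal ∧ Nat.card N = r ^ i * q ^ j ∧ N ⊓ A = ⊥ ∧ N ⊔ A = ⊤) := by
  classical
  have ha := S.one_lt_a
  have hidx : ∀ v : cen u, (orderOf v).Coprime r →
      (cen v).index = 1 ∨ (cen v).index = b / a := by
    intro v hv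
    have hcop : (orderOf u).Coprime (orderOf (v : G)) := by
      rw [Subgroup.orderOf_coe]
      obtain ⟨k, hk⟩ := pel_orderOf hr hur
      rw [hk]
      exact (hv.pow_right k).symm
    have e := cen_mul v.2 hcop
    have h1 : cen v = (cen (v : G)).subgroupOf (cen u) := by
      ext y
      rw [Subgroup.mem_subgroupOf, mem_cen, mem_cen]
      exact ⟨fun h => congrArg Subtype.val h, fun h => Subtype.ext h⟩
    have h2 : (cen v).index = (cen (u * v)).relIndex (cen u) := by
      rw [h1, e, inf_comm, Subgroup.inf_relIndex_right]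
      rfl
    have h3 := Subgroup.relIndex_mul_index (e.le.trans inf_le_left)
    rw [← h2] at h3
    change (cen v).index * idx u = idx (u * v) at h3
    rw [hu] at h3
    have hne : u * (v : G) ≠ 1 := by
      intro hm
      rw [hm, ClassSizesFour21.idx_one_iff.2 (one_mem _)] at h3
      exact absurd (Nat.eq_one_of_mul_eq_one_left h3) ha.ne'
    rcases S.mem _ hne with h | h | h
    · exact Or.inl (Nat.eq_of_mul_eq_mul_right (by omega) (h3.trans (h.trans (one_mul a).symm)))
    · right
      rw [← h, ← h3, Nat.mul_div_cancel _ (by omega)]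
    · exact absurd ⟨_, (h3.trans h).symm.trans (mul_comm _ _)⟩ S.not_a_dvd_c
  by_cases hall : ∀ v : cen u, (orderOf v).Coprime r → (cen v).index = 1
  · left
    intro v hv hvr w hw
    have h1 := Subgroup.index_eq_one.1 (hall ⟨v, hv⟩ (by rwa [Subgroup.orderOf_mk]))
    exact mem_cen.2 (congrArg Subtype.val (mem_cen.1 (h1.ge (Subgroup.mem_top (⟨w, hw⟩ : cen u)))))
  right
  push Not at hall
  obtain ⟨v₀, hv₀, hne₀⟩ := hall
  have hb₀ := (hidx v₀ hv₀).resolve_left hne₀
  have hconj : ∀ v : cen u, (ConjClasses.mk v).carrier.ncard = (cen v).index := fun v => by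
    rw [← Nat.card_coe_set_eq]; exact Induced.Integral.nat_card_carrier v
  have hset : Set.range (fun x : {x : cen u // (orderOf x).Coprime r} =>
      (ConjClasses.mk (x : cen u)).carrier.ncard) = {1, b / a} := by
    ext n
    constructor
    · rintro ⟨x, rfl⟩
      simpa [hconj] using hidx x x.2
    · rintro (rfl | rfl)
      · refine ⟨⟨1, by rw [orderOf_one]; exact Nat.coprime_one_left r⟩, ?_⟩
        simp only [hconj]
        exact ClassSizesFour21.idx_one_iff.2 (one_mem _)
      · exact ⟨⟨v₀, hv₀⟩, by simp only [hconj, hb₀]⟩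
  have h2 := S4033.result hr (G := cen u) (by
    rw [hset, Set.ncard_pair]
    exact fun e => hne₀ (hb₀.trans e.symm))
  rcases h2 with ⟨H, hHc, hHr, k, hk⟩ | ⟨q, hq, P, Q, A, -, hA, hcard, hN, hinf, hsup⟩
  · exact Or.inl ⟨H, k, hHc, hHr, hk⟩
  · haveI := Fact.mk hr
    obtain ⟨i, hi⟩ := P.2.exists_card_eq
    obtain ⟨j, hj⟩ := Q.2.exists_card_eq
    exact Or.inr ⟨q, _, A, i, j, hq.out, hA, hN, by rw [hcard, hi, hj], hinf, hsup⟩

theorem cen_solvable (S : Sizes G a b c) (hcb : ¬ c ∣ b) {x : G} (hx : x ≠ 1) :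
    Group.IsSolvable (cen x) := by
  obtain ⟨r, u, hr, hur, hu1, -, hle⟩ := exists_primary hx
  suffices h : Group.IsSolvable (cen u) by
    haveI := h
    exact Group.isSolvable_of_isSolvable_injective (Subgroup.inclusion_injective hle)
  rcases S.mem u hu1 with hu | hu
  swap
  · haveI := S.cen_nilpotent_bc hcb hr hur hu
    infer_instance
  rcases S.cen_a_cases hr hur hu with h | ⟨H, k, hHc, hHr, hk⟩ | ⟨q, N, A, i, j, hq, hA, hN, hcard, -, hsup⟩
  · haveI : Group.IsNilpotent (cen u) := by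
      refine isNilpotent_of_primary fun p q x y hp hq hpq hx hy hxp hyq => ?_
      by_cases hpr : p = r
      · exact (mem_cen.1 (h y hy (hyq.coprime hq
          ((Nat.coprime_primes hq hr).2 fun e => hpq (hpr.trans e.symm))) hx)).symm
      · exact mem_cen.1 (h x hx (hxp.coprime hp ((Nat.coprime_primes hp hr).2 hpr)) hy)
    infer_instance
  · haveI := Fact.mk hr
    obtain ⟨P⟩ := (inferInstance : Nonempty (Sylow r (cen u)))
    have hcop : (Nat.card H).Coprime r := (hr.coprime_iff_not_dvd.2 hHr).symm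
    have hP : Nat.card P = r ^ k := by
      rw [P.card_eq_multiplicity, ← H.card_mul_index, hk,
        Nat.factorization_mul Nat.card_pos.ne' (pow_ne_zero _ hr.ne_zero), Finsupp.add_apply,
        Nat.factorization_eq_zero_of_not_dvd hHr, zero_add, hr.factorization_pow, Finsupp.single_eq_same]
    have hc : Subgroup.IsComplement' H (P : Subgroup (cen u)) :=
      Subgroup.isComplement'_of_coprime (by rw [hP, ← hk, H.card_mul_index])
        (by rw [hP]; exact hcop.pow_right k)
    haveI : Group.IsNilpotent H := by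
      refine isNilpotent_of_primary fun p q x y _ _ _ hx hy _ _ => ?_
      haveI := hHc
      exact setLike_mul_comm hx hy
    refine KegelWielandt.isSolvable (A := H) (B := (P : Subgroup (cen u))) inferInstance
      P.2.isNilpotent fun g => ?_
    obtain ⟨⟨y, z⟩, hyz⟩ := hc.2 g
    exact ⟨y, y.2, z, z.2, hyz.symm⟩
  · haveI := hN
    haveI := Induced.Burnside.isSolvable_of_card_eq (G := N) r q i j hr hq hcard
    haveI : Group.IsSolvable (cen u ⧸ N) := by
      refine Group.isSolvable_of_comm fun x y => ?_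
      induction x using QuotientGroup.induction_on with | _ x => ?_
      induction y using QuotientGroup.induction_on with | _ y => ?_
      have hx : x ∈ N ⊔ A := hsup ▸ Subgroup.mem_top x
      obtain ⟨n, hn, g, hg, rfl⟩ := Subgroup.mem_sup_of_normal_left.1 hx
      rw [QuotientGroup.mk_mul, (QuotientGroup.eq_one_iff n).2 hn, one_mul, ← QuotientGroup.mk_mul,
        ← QuotientGroup.mk_mul, Subgroup.mem_center_iff.1 (hA hg)]
    exact Group.isSolvable_of_ker_le_range N.subtype (QuotientGroup.mk' N)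
      (by rw [QuotientGroup.ker_mk', N.range_subtype])

/-- A `c`-type centraliser is abelian or a group of prime power order. -/
theorem cen_c_dichotomy (S : Sizes G a b c) (hcb : ¬ c ∣ b) {s : ℕ} (hs : s.Prime) {w : G}
    (hws : IsPEl s w) (hw : idx w = c) :
    IsPGroup s (cen w) ∨ ∀ x ∈ cen w, ∀ y ∈ cen w, x * y = y * x := by
  by_cases hp : ∀ (p : ℕ) (v : G), p.Prime → v ∈ cen w → IsPEl p v → v ≠ 1 → p = s
  · left
    have := Fact.mk hs
    refine IsPGroup.iff_orderOf.2 fun g => ?_
    refine ⟨_, Nat.eq_prime_pow_of_unique_prime_dvd (orderOf_pos g).ne' fun {d} hd hdg => ?_⟩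
    obtain ⟨v, hv, hv1, hvd, -⟩ := exists_pel_of_dvd hd (hdg.trans (orderOf_dvd_natCard g))
    exact hp d v hd hv hvd hv1
  · push Not at hp
    obtain ⟨p, v, hp, hv, hvp, hv1, hne⟩ := hp
    have h1 := S.cen_le_c hcb hw hv (hws.coprime_orderOf hs hp (Ne.symm hne) hvp)
    have hvc : idx v = c := S.c_of_dvd hv1 (hw ▸ Subgroup.index_dvd_of_le h1)
    have ev : cen w = cen v := cen_eq_of_idx h1 (hw.trans hvc.symm)
    right
    refine commutative_of_primary fun q g hq hg hgq _ => ?_
    by_cases hqs : q = s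
    · rw [ev]
      exact S.cen_le_c hcb hvc (ev ▸ hg)
        (hvp.coprime_orderOf hp hq (fun e => hne (e.trans hqs)) hgq)
    · exact S.cen_le_c hcb hw hg (hws.coprime_orderOf hs hq (Ne.symm hqs) hgq)

/-- A nonabelian `c`-type centraliser is impossible unless another one is abelian. -/
theorem exists_abelian_c (S : Sizes G a b c) (hcb : ¬ c ∣ b) :
    ∃ (p : ℕ) (w : G), p.Prime ∧ IsPEl p w ∧ idx w = c ∧
      ∀ x ∈ cen w, ∀ y ∈ cen w, x * y = y * x := by
  classical
  by_contra hcon
  push Not at hcon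
  obtain ⟨s, w, hs, hws, -, hw⟩ := S.exists_primary_c
  haveI := Fact.mk hs
  have ha0 := S.one_lt_a
  have hcw := card_cen_mul_idx w
  rw [hw] at hcw
  -- all `c`-type centralisers are Sylow `s`-subgroups
  have hpg : ∀ {p : ℕ} {x : G}, p.Prime → IsPEl p x → idx x = c → IsPGroup p (cen x) := by
    intro p x hp hxp hx
    refine (S.cen_c_dichotomy hcb hp hxp hx).resolve_right fun h => ?_
    obtain ⟨y, hy, z, hz, hne⟩ := hcon p x hp hxp hx
    exact hne (h y hy z hz)
  have hws' := hpg hs hws hw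
  obtain ⟨n, hn⟩ := hws'.exists_card_eq
  obtain ⟨xa, hxa⟩ := S.exists_a
  have had : a ∣ s ^ n := by
    rw [← hn]
    refine S.cop.dvd_of_dvd_mul_right ?_
    rw [hcw]
    exact hxa ▸ Dvd.intro_left _ (card_cen_mul_idx xa)
  obtain ⟨k, -, hak⟩ := (Nat.dvd_prime_pow hs).1 had
  have hk0 : k ≠ 0 := by rintro rfl; simp at hak; omega
  have hsa : s ∣ a := hak ▸ dvd_pow_self s hk0
  have hsc : ¬ s ∣ c := fun h => hs.ne_one (Nat.eq_one_of_dvd_coprimes S.cop hsa h)
  have hn0 : n ≠ 0 := fun e => by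
    rw [e, pow_zero] at had
    exact ha0.ne' (Nat.dvd_one.1 had)
  have hall : ∀ {p : ℕ} {x : G}, p.Prime → IsPEl p x → idx x = c →
      p = s ∧ IsPGroup s (cen x) ∧ Nat.card (cen x) = s ^ n := by
    intro p x hp hxp hx
    have hc' := card_cen_mul_idx x
    rw [hx, ← hcw] at hc'
    have hcard : Nat.card (cen x) = s ^ n :=
      (Nat.eq_of_mul_eq_mul_right (by have := S.one_lt_c; omega) hc').trans hn
    haveI := Fact.mk hp
    obtain ⟨j, hj⟩ := (hpg hp hxp hx).exists_card_eq
    have hd : s ∣ p ^ j := (hcard.symm.trans hj) ▸ dvd_pow_self s hn0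
    exact ⟨((Nat.prime_dvd_prime_iff_eq hs hp).1 (hs.dvd_of_dvd_pow hd)).symm,
      IsPGroup.of_card hcard, hcard⟩
  have hsyl : ∀ T : Sylow s G, Nat.card T = s ^ n := by
    intro T
    rw [T.card_eq_multiplicity, ← hcw, hn, Nat.factorization_mul (pow_ne_zero _ hs.ne_zero)
      (by have := S.one_lt_c; omega), Finsupp.add_apply, Nat.factorization_eq_zero_of_not_dvd hsc,
      add_zero, hs.factorization_pow, Finsupp.single_eq_same]
  have hsG : s ∣ Nat.card G := hcw ▸ hn ▸ (dvd_pow_self s hn0).mul_right c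
  have hcentral : ∀ T : Sylow s G, ∃ z ∈ (T : Subgroup G), z ≠ 1 ∧ IsPEl s z ∧
      (T : Subgroup G) ≤ cen z ∧ idx z = c := by
    intro T
    obtain ⟨z, hz, hz1, hzs, hTz⟩ := exists_central T hsG
    have hd := not_dvd_idx_of_le T hTz
    rcases S.mem z hz1 with h | h | h
    · exact absurd hsa (h ▸ hd)
    · exact absurd (hsa.trans S.dvd) (h ▸ hd)
    · exact ⟨z, hz, hz1, hzs, hTz, h⟩
  have hrad : ∀ {x : G} {j : ℕ}, idx x = s ^ j → x ∈ solRad G := fun {x} {j} h =>
    PrimePowerClass.Basic.mem_solRad hs x h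
  by_cases hb : ∃ x : G, IsPEl s x ∧ idx x = b
  · -- `s`-elements of size `b`
    obtain ⟨x, hxs, hx⟩ := hb
    obtain ⟨T⟩ := (inferInstance : Nonempty (Sylow s (cen x)))
    obtain ⟨T', hT'⟩ := (T.2.map (cen x).subtype).exists_le_sylow
    obtain ⟨z, hzT, hz1, hzs, hTz, hzc⟩ := hcentral T'
    have hxT : x ∈ (T' : Subgroup G) := by
      have hcz : IsPGroup s (Subgroup.zpowers (⟨x, self_mem_cen x⟩ : cen x)) := by
        obtain ⟨j, hj⟩ := pel_orderOf hs hxs
        exact IsPGroup.of_card (n := j) (by rw [Nat.card_zpowers, Subgroup.orderOf_mk, hj])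
      have hN : (Subgroup.zpowers (⟨x, self_mem_cen x⟩ : cen x)).Normal := ⟨by
        rintro _ ⟨m, rfl⟩ g
        refine ⟨m, ?_⟩
        have hfix : g * (⟨x, self_mem_cen x⟩ : cen x) * g⁻¹ = ⟨x, self_mem_cen x⟩ :=
          Subtype.ext (show (g : G) * x * (g : G)⁻¹ = x by rw [← mem_cen.1 g.2, mul_inv_cancel_right])
        show _ = g * _ * g⁻¹
        rw [← conj_zpow, hfix]⟩
      haveI := hN
      exact hT' ⟨_, (T.is_maximal' (hcz.to_sup_of_normal_left T.2) le_sup_right).le
        (Subgroup.mem_sup_left (Subgroup.mem_zpowers _)), rfl⟩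
    have hzx : z ∈ cen x := mem_cen_comm.1 (hTz hxT)
    have hxsg : IsPGroup s (cen x) := by
      refine IsPGroup.iff_orderOf.2 fun g => ?_
      refine ⟨_, Nat.eq_prime_pow_of_unique_prime_dvd (orderOf_pos g).ne' fun {d} hd hdg => ?_⟩
      by_contra hds
      obtain ⟨v, hv, hv1, hvd, -⟩ := exists_pel_of_dvd hd (hdg.trans (orderOf_dvd_natCard g))
      have h1 : v ∈ cen z := mem_cen_comm.1
        (S.cen_le_b hx hv (hxs.coprime_orderOf hs hd (Ne.symm hds) hvd) hzx)
      exact hds (pel_prime_unique hd hs hvd (isPEl_of_mem (hall hs hzs hzc).2.1 h1) hv1)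
    obtain ⟨m, hm⟩ := hxsg.exists_card_eq
    refine S.notSolv (solvable_of_two_primes hs hs fun p y hp hps _ hyp => ?_)
    rcases eq_or_ne y 1 with rfl | hy1
    · exact one_mem _
    rcases S.mem y hy1 with h | h | h
    · exact hrad (h.trans hak)
    · exfalso
      have h1 := card_cen_mul_idx y
      rw [h, ← card_cen_mul_idx x, hx] at h1
      have h2 := Nat.eq_of_mul_eq_mul_right (by have := S.lt; omega) h1
      rw [hm] at h2
      exact hps (pel_prime_unique hp hs hyp
        (isPEl_of_mem (IsPGroup.of_card h2) (self_mem_cen y)) hy1)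
    · exact absurd (hall hp hyp h).1 hps
  by_cases hv : ∃ x : G, IsPEl s x ∧ idx x = a
  · -- `s`-elements of size `a`
    obtain ⟨v, hvs, hva⟩ := hv
    have hind : ∀ {p : ℕ}, p.Prime → p ≠ s → ¬ p ∣ (cen v).index := by
      intro p hp hps h
      rw [show (cen v).index = a from hva, hak] at h
      exact hps ((Nat.prime_dvd_prime_iff_eq hp hs).1 (hp.dvd_of_dvd_pow h))
    rcases S.cen_a_cases hs hvs hva with h | ⟨H, j, hHc, hHs, hj⟩ |
        ⟨q, N, A, i, j, hq, hA, hN, hcard, hinf, hsup⟩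
    · refine S.notSolv (solvable_of_two_primes hs hs fun p y hp hps _ => ?_)
      haveI := Fact.mk hp
      refine forall_pel_of_index (hind hp hps) (fun x hx hxp => ?_) y
      have hd : idx x ∣ a := hva ▸ Subgroup.index_dvd_of_le
        (h x hx (hxp.coprime hp ((Nat.coprime_primes hp hs).2 hps)))
      obtain ⟨i, -, hi⟩ := (Nat.dvd_prime_pow hs).1 (hak ▸ hd)
      exact hrad hi
    · refine S.notSolv (solvable_of_two_primes hs hs fun p y hp hps _ => ?_)
      haveI := Fact.mk hp
      refine forall_pel_of_index (H := H.map (cen v).subtype) ?_ (fun x hx hxp => ?_) y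
      · rw [Subgroup.index_map_subtype, hj]
        intro hd
        rcases hp.dvd_mul.1 hd with h1 | h1
        · exact hps ((Nat.prime_dvd_prime_iff_eq hp hs).1 (hp.dvd_of_dvd_pow h1))
        · exact hind hp hps h1
      · haveI := hHc
        have hd : idx x ∣ (H.map (cen v).subtype).index := Subgroup.index_dvd_of_le (by
          rintro _ ⟨y', hy', rfl⟩
          obtain ⟨x', hx', rfl⟩ := hx
          exact mem_cen.2 (congrArg Subtype.val (setLike_mul_comm hx' hy')))
        rw [Subgroup.index_map_subtype, hj, show (cen v).index = a from hva, hak, ← pow_add] at hd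
        obtain ⟨i, -, hi⟩ := (Nat.dvd_prime_pow hs).1 hd
        exact hrad hi
    · refine S.notSolv (solvable_of_two_primes hs hq fun p y hp hps hpq => ?_)
      haveI := Fact.mk hp
      haveI := hN
      refine forall_pel_of_index (H := A.map (cen v).subtype) ?_ (fun x hx hxp => ?_) y
      · rw [Subgroup.index_map_subtype]
        haveI : A.Normal := ⟨fun x hx g => by
          rw [← (Subgroup.mem_center_iff.1 (hA hx) g).symm] at *
          simpa using hx⟩
        have hA' : A.index = Nat.card N :=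
          (Subgroup.isComplement'_of_disjoint_and_mul_eq_univ (disjoint_iff.2 hinf)
            (by rw [← Subgroup.normal_mul, hsup]; rfl)).index_eq_card.symm ▸ rfl
        intro hd
        rcases hp.dvd_mul.1 hd with h1 | h1
        · rw [hA', hcard] at h1
          rcases hp.dvd_mul.1 h1 with h2 | h2
          · exact hps ((Nat.prime_dvd_prime_iff_eq hp hs).1 (hp.dvd_of_dvd_pow h2))
          · exact hpq ((Nat.prime_dvd_prime_iff_eq hp hq).1 (hp.dvd_of_dvd_pow h2))
        · exact hind hp hps h1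
      · obtain ⟨x', hx', rfl⟩ := hx
        have hle : cen v ≤ cen (x' : G) := fun g hg => mem_cen.2
          (congrArg Subtype.val (Subgroup.mem_center_iff.1 (hA hx') ⟨g, hg⟩)).symm
        have hd : idx (x' : G) ∣ idx v := Subgroup.index_dvd_of_le hle
        rw [hva, hak] at hd
        obtain ⟨i, -, hi⟩ := (Nat.dvd_prime_pow hs).1 hd
        exact hrad hi
  -- all nontrivial `s`-elements have size `c`
  have hc' : ∀ x : G, IsPEl s x → x ≠ 1 → idx x = c := fun x hxs hx1 =>
    ((S.mem x hx1).resolve_left fun h => hv ⟨x, hxs, h⟩).resolve_left fun h => hb ⟨x, hxs, h⟩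
  obtain ⟨T⟩ := (inferInstance : Nonempty (Sylow s G))
  have hTnc : ¬ IsMulCommutative (T : Subgroup G) := by
    intro hT
    obtain ⟨y, hy, z, hz, hne⟩ := hcon s w hs hws hw
    obtain ⟨g, hg⟩ := MulAction.exists_smul_eq G T (hws'.toSylow (by
      rw [show (cen w).index = c from hw]; exact hsc))
    have key : ∀ {y : G}, y ∈ cen w → g⁻¹ * y * g ∈ (T : Subgroup G) := by
      intro y hy
      have : y ∈ ((g • T : Sylow s G) : Subgroup G) := by
        rw [hg]; exact hy
      rw [Sylow.coe_subgroup_smul, Subgroup.mem_pointwise_smul_iff_inv_smul_mem] at this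
      simpa [MulAut.smul_def, MulAut.inv_def, mul_assoc] using this
    haveI := hT
    have h1 := setLike_mul_comm (key hy) (key hz)
    apply hne
    calc y * z = g * ((g⁻¹ * y * g) * (g⁻¹ * z * g)) * g⁻¹ := by group
      _ = g * ((g⁻¹ * z * g) * (g⁻¹ * y * g)) * g⁻¹ := by rw [h1]
      _ = z * y := by group
  rcases eq_or_ne s 2 with rfl | hs2
  · refine hTnc (CentralTwoElements.isMulCommutative ?_ T)
    rintro x ⟨j, hj⟩
    rcases eq_or_ne x 1 with rfl | hx1
    · exact ⟨T, fun g _ => mem_cen.2 (by simp)⟩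
    have h := hall hs (isPEl_of_orderOf hj) (hc' x (isPEl_of_orderOf hj) hx1)
    exact ⟨h.2.1.toSylow (by
      rw [show (cen x).index = c from hc' x (isPEl_of_orderOf hj) hx1]; exact hsc), le_rfl⟩
  -- `s` is odd
  obtain ⟨p, y, hp, hyp, hy1, hy⟩ := S.exists_primary_a
  have hps : p ≠ s := by
    rintro rfl
    exact S.a_ne_c (hy.symm.trans (hc' y hyp hy1))
  have hR : solRad G ≠ ⊥ := fun e => hy1 (Subgroup.mem_bot.1 (e ▸ hrad (hy.trans hak)))
  obtain ⟨E, hEn, hE1, -, hEc⟩ := exists_abelian_normal_le solRad_isSolvable hR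
  haveI := hEn
  obtain ⟨e₀, he₀, he₀1⟩ : ∃ e ∈ E, e ≠ 1 := by
    by_contra h
    push Not at h
    exact hE1 ((Subgroup.eq_bot_iff_forall _).2 h)
  by_cases hEs : IsPGroup s E
  swap
  · obtain ⟨g, hgE, hg1, r, hr, hrs, hgr⟩ : ∃ g ∈ E, g ≠ 1 ∧ ∃ r, r.Prime ∧ r ≠ s ∧ IsPEl r g := by
      by_contra h
      push Not at h
      refine hEs (IsPGroup.iff_orderOf.2 fun g => ⟨_,
        Nat.eq_prime_pow_of_unique_prime_dvd (orderOf_pos g).ne' fun {d} hd hdg => ?_⟩)
      by_contra hds
      obtain ⟨v, hv, hv1, hvd, -⟩ := exists_pel_of_dvd hd (hdg.trans (orderOf_dvd_natCard g))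
      exact h v hv hv1 d hd hds hvd
    set U : Subgroup G :=
      { carrier := {x | x ∈ E ∧ IsPEl r x}
        mul_mem' := by
          rintro x y ⟨hx, i, hi⟩ ⟨hy, j, hj⟩
          refine ⟨E.mul_mem hx hy, i + j, ?_⟩
          rw [Commute.mul_pow (hEc x hx y hy), pow_add, pow_mul, hi, one_pow, one_mul, mul_comm,
            pow_mul, hj, one_pow]
        one_mem' := ⟨E.one_mem, 0, one_pow _⟩
        inv_mem' := by
          rintro x ⟨hx, i, hi⟩
          exact ⟨E.inv_mem hx, i, by rw [inv_pow, hi, inv_one]⟩ } with hU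
    haveI : U.Normal := ⟨fun x hx g => ⟨hEn.conj_mem x hx.1 g,
      ClassSizesFour21.conj_isPEl hx.2 g⟩⟩
    have hfix : ∀ t ∈ (T : Subgroup G), t ≠ 1 → U ⊓ cen t = ⊥ := by
      intro t ht ht1
      rw [Subgroup.eq_bot_iff_forall]
      rintro x ⟨⟨-, hxr⟩, hxt⟩
      by_contra hx1
      have hts := isPEl_of_mem T.2 ht
      exact hrs (pel_prime_unique hr hs hxr
        (isPEl_of_mem (hall hs hts (hc' t hts ht1)).2.1 hxt) hx1)
    have hdis : U ⊓ (T : Subgroup G) = ⊥ := by
      rw [Subgroup.eq_bot_iff_forall]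
      rintro x ⟨⟨-, hxr⟩, hxT⟩
      by_contra hx1
      exact hrs (pel_prime_unique hr hs hxr (isPEl_of_mem T.2 hxT) hx1)
    have hU1 : U ≠ ⊥ := fun e => hg1 (Subgroup.mem_bot.1 (e ▸ (⟨hgE, hgr⟩ : g ∈ U)))
    haveI := (CNGroup.Solvable.isCyclic_of_fpf_action hU1 hdis hfix).2 T.2.isNilpotent (by
      rw [hsyl T]; exact (hs.odd_of_ne_two hs2).pow)
    exact hTnc inferInstance
  · have hinv : ∀ i : G, orderOf i = 2 → ∀ e ∈ E, i * e * i⁻¹ = e⁻¹ := by
      intro i hi e he
      by_contra hne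
      have hf1 : e * (i * e * i⁻¹) ≠ 1 := fun h => hne (eq_inv_of_mul_eq_one_right h)
      have hfs := isPEl_of_mem hEs (E.mul_mem he (hEn.conj_mem e he i))
      have hmem : i ∈ cen (e * (i * e * i⁻¹)) := mem_cen.2 <| (mul_inv_eq_iff_eq_mul.1 (by
        calc i * (e * (i * e * i⁻¹)) * i⁻¹
            = (i * e * i⁻¹) * ((i * i) * e * (i * i)⁻¹) := by group
          _ = e * (i * e * i⁻¹) := by
            rw [Involutions.Basic.invol_mul_self hi, one_mul, inv_one, mul_one,
              hEc _ (hEn.conj_mem e he i) e he])).symm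
      exact hs2 (pel_prime_unique hs Nat.prime_two
        (isPEl_of_mem (hall hs hfs (hc' _ hfs hf1)).2.1 hmem)
        (isPEl_of_orderOf (k := 1) (by rw [hi, pow_one])) (Involutions.Basic.invol_ne_one hi))
    have he₀s := isPEl_of_mem hEs he₀
    obtain ⟨C₀, hC₀⟩ : ∃ C₀, C₀ = Subgroup.centralizer (E : Set G) := ⟨_, rfl⟩
    haveI : C₀.Normal := hC₀ ▸ inferInstance
    have hC₀s : IsPGroup s C₀ := (hall hs he₀s (hc' _ he₀s he₀1)).2.1.to_le
      (hC₀ ▸ Subgroup.centralizer_le (Set.singleton_subset_iff.2 he₀))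
    have hd2 : 2 ∣ Nat.card G := by
      by_contra hd
      exact S.notSolv (OddOrder.FeitThompson.isSolvable_of_odd_card (Nat.not_even_iff_odd.1
        fun he => hd (even_iff_two_dvd.1 he)))
    haveI : Fact (Nat.Prime 2) := ⟨Nat.prime_two⟩
    obtain ⟨z, hz⟩ := exists_prime_orderOf_dvd_card' 2 hd2
    haveI := S.cen_solvable hcb (Involutions.Basic.invol_ne_one hz)
    have hfac : ∀ g : G, ∃ x ∈ C₀, x⁻¹ * g ∈ cen z := by
      intro g
      have hx : g * z * g⁻¹ * z ∈ C₀ := by
        rw [hC₀, Subgroup.mem_centralizer_iff]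
        intro e he
        have h1 := hinv z hz e he
        have h2 := hinv (g * z * g⁻¹) (by rw [Involutions.Basic.orderOf_conj_eq]; exact hz) e⁻¹
          (E.inv_mem he)
        rw [inv_inv, ← h1] at h2
        refine ((mul_inv_eq_iff_eq_mul.1 ?_)).symm
        calc g * z * g⁻¹ * z * e * (g * z * g⁻¹ * z)⁻¹
            = g * z * g⁻¹ * (z * e * z⁻¹) * (g * z * g⁻¹)⁻¹ := by group
          _ = e := h2
      obtain ⟨x, hxdef⟩ : ∃ x, x = g * z * g⁻¹ * z := ⟨_, rfl⟩
      rw [← hxdef] at hx
      have hodd : Odd (orderOf x) := by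
        obtain ⟨j, hj⟩ := pel_orderOf hs (isPEl_of_mem hC₀s hx)
        exact hj ▸ (hs.odd_of_ne_two hs2).pow
      obtain ⟨m, hm⟩ := hodd
      refine ⟨x ^ (m + 1), C₀.pow_mem hx _, mem_cen.2 ?_⟩
      have hzz := Involutions.Basic.invol_mul_self hz
      have hgz : (g * z * g⁻¹) * (g * z * g⁻¹) = 1 := by
        calc (g * z * g⁻¹) * (g * z * g⁻¹) = g * (z * z) * g⁻¹ := by group
          _ = 1 := by rw [hzz]; group
      have hzinv : z * x * z = x⁻¹ := by
        rw [hxdef, mul_inv_rev, Involutions.Basic.invol_inv hz, inv_eq_of_mul_eq_one_right hgz]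
        simp only [mul_assoc, hzz, mul_one]
      have hzy : z * x ^ (m + 1) = (x ^ (m + 1))⁻¹ * z := by
        have := Involutions.Basic.invert_zpow hzz hzinv ((m + 1 : ℕ) : ℤ)
        rw [zpow_natCast, zpow_neg, zpow_natCast] at this
        rw [← this]
        simp only [mul_assoc, hzz, mul_one]
      have hyy : x ^ (m + 1) * x ^ (m + 1) = x := by
        rw [← pow_add, show m + 1 + (m + 1) = orderOf x + 1 by omega, pow_add, pow_orderOf_eq_one,
          one_mul, pow_one]
      have hgz' : g * z * g⁻¹ = x * z := by rw [hxdef, mul_assoc _ z z, hzz, mul_one]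
      calc z * ((x ^ (m + 1))⁻¹ * g) = (z * (x ^ (m + 1))⁻¹) * g := by rw [mul_assoc]
        _ = (x ^ (m + 1) * z) * g := by
          congr 1
          rw [mul_inv_eq_iff_eq_mul, mul_assoc, hzy, mul_inv_cancel_left]
        _ = (x ^ (m + 1))⁻¹ * (x ^ (m + 1) * x ^ (m + 1) * z) * g := by group
        _ = (x ^ (m + 1))⁻¹ * g * z := by rw [hyy, ← hgz']; group
    haveI : Group.IsSolvable (G ⧸ C₀) := Group.isSolvable_of_surjective
      (f := (QuotientGroup.mk' C₀).comp (cen z).subtype) fun q => by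
        induction q using QuotientGroup.induction_on with | _ g => ?_
        obtain ⟨x, hx, hg⟩ := hfac g
        refine ⟨⟨_, hg⟩, ?_⟩
        simp [QuotientGroup.mk_mul, (QuotientGroup.eq_one_iff x).2 hx]
    haveI := hC₀s.isNilpotent
    exact S.notSolv (Group.isSolvable_of_ker_le_range C₀.subtype (QuotientGroup.mk' C₀)
      (by rw [QuotientGroup.ker_mk', C₀.range_subtype]))

end Sizes

end Cfsg.Agent.Lib.RankThree72
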